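import Mathlib
import Groth.Prelude.Def_EtRam
import Groth.Agent.Lib.Helper9.CommonExt
import Groth.Agent.Lib.Helper9.AbhAbs.BaseChange

/-!
# Common extension of a valuation ring along an extension of discrete valuation rings,
in the `locLift` setting (helper9)
-/

universe u

open IsLocalRing EtRam

namespace Groth.Agent.Lib.Helper9.AbhGen

open Groth.Agent.Lib.Helper9.AbhAbs Groth.Agent.Lib.Helper9.CommonExt

section CE

variable (R R' : Type u) [CommRing R] [IsDomain R] [CommRing R'] [IsDomain R'] [Algebra R R']
  [FaithfulSMul R R']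
  (𝔭 : Ideal R) [𝔭.IsPrime] (𝔓 : Ideal R') [𝔓.IsPrime] [𝔓.LiesOver 𝔭]
  [IsDiscreteValuationRing (Localization.AtPrime 𝔭)]
  [IsDiscreteValuationRing (Localization.AtPrime 𝔓)]
  (L : Type u) [Field L] [Algebra R L] [FaithfulSMul R L]

set_option maxHeartbeats 2000000 in
theorem common_ext (V : ValuationSubring L)
    (hdom : Dominates (Localization.AtPrime 𝔭) (locLift R L 𝔭) V) :
    ∃ (M : Type u) (_ : Field M) (_ : Algebra R' M) (_ : FaithfulSMul R' M) (i : L →+* M)
      (V' : ValuationSubring M),
      (∀ a : R, i (algebraMap R L a) = algebraMap R' M (algebraMap R R' a)) ∧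
      (∀ E : Subfield M, Set.range i ⊆ E → Set.range (algebraMap R' M) ⊆ E → E = ⊤) ∧
      V'.comap i = V ∧ Dominates (Localization.AtPrime 𝔓) (locLift R' M 𝔓) V' := by
  classical
  letI algAB : Algebra (Localization.AtPrime 𝔭) (Localization.AtPrime 𝔓) :=
    Localization.AtPrime.algebraOfLiesOver 𝔭 𝔓
  haveI : IsLocalHom (algebraMap (Localization.AtPrime 𝔭) (Localization.AtPrime 𝔓)) :=
    Localization.isLocalHom_localRingHom 𝔭 𝔓 (algebraMap R R') Ideal.LiesOver.over
  letI algAK : Algebra (Localization.AtPrime 𝔭) (FractionRing R) :=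
    (locLift R (FractionRing R) 𝔭).toAlgebra
  haveI towRAK : IsScalarTower R (Localization.AtPrime 𝔭) (FractionRing R) :=
    IsScalarTower.of_algebraMap_eq (fun a => (locLift_algebraMap R (FractionRing R) 𝔭 a).symm)
  haveI : IsFractionRing (Localization.AtPrime 𝔭) (FractionRing R) :=
    IsFractionRing.isFractionRing_of_isDomain_of_isLocalization 𝔭.primeCompl _ _
  letI algBKB : Algebra (Localization.AtPrime 𝔓) (FractionRing R') :=
    (locLift R' (FractionRing R') 𝔓).toAlgebra
  haveI towRBK : IsScalarTower R' (Localization.AtPrime 𝔓) (FractionRing R') :=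
    IsScalarTower.of_algebraMap_eq (fun a => (locLift_algebraMap R' (FractionRing R') 𝔓 a).symm)
  haveI : IsFractionRing (Localization.AtPrime 𝔓) (FractionRing R') :=
    IsFractionRing.isFractionRing_of_isDomain_of_isLocalization 𝔓.primeCompl _ _
  haveI : FaithfulSMul R (FractionRing R') :=
    (faithfulSMul_iff_algebraMap_injective R (FractionRing R')).mpr (by
      rw [IsScalarTower.algebraMap_eq R R' (FractionRing R')]
      exact (IsFractionRing.injective R' (FractionRing R')).comp
        (FaithfulSMul.algebraMap_injective R R'))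
  letI algKKB : Algebra (FractionRing R) (FractionRing R') :=
    FractionRing.liftAlgebra R (FractionRing R')
  letI algAKB : Algebra (Localization.AtPrime 𝔭) (FractionRing R') :=
    (locLift R (FractionRing R') 𝔭).toAlgebra
  haveI towAKKB : IsScalarTower (Localization.AtPrime 𝔭) (FractionRing R) (FractionRing R') := by
    apply IsScalarTower.of_algebraMap_eq'
    apply locRingHom_ext R 𝔭
    intro a
    rw [RingHom.comp_apply, ← IsScalarTower.algebraMap_apply R (Localization.AtPrime 𝔭) (FractionRing R),
      ← IsScalarTower.algebraMap_apply R (FractionRing R) (FractionRing R')]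
    exact locLift_algebraMap R (FractionRing R') 𝔭 a
  haveI towABKB : IsScalarTower (Localization.AtPrime 𝔭) (Localization.AtPrime 𝔓)
      (FractionRing R') := by
    apply IsScalarTower.of_algebraMap_eq'
    apply locRingHom_ext R 𝔭
    intro a
    rw [RingHom.comp_apply]
    have h1 : algebraMap (Localization.AtPrime 𝔭) (Localization.AtPrime 𝔓)
        (algebraMap R (Localization.AtPrime 𝔭) a) =
        algebraMap R' (Localization.AtPrime 𝔓) (algebraMap R R' a) :=
      Localization.localRingHom_to_map 𝔭 𝔓 (algebraMap R R') Ideal.LiesOver.over a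
    rw [h1, ← IsScalarTower.algebraMap_apply R' (Localization.AtPrime 𝔓) (FractionRing R'),
      ← IsScalarTower.algebraMap_apply R R' (FractionRing R')]
    exact locLift_algebraMap R (FractionRing R') 𝔭 a
  letI algKL : Algebra (FractionRing R) L := FractionRing.liftAlgebra R L
  haveI : IsScalarTower R (FractionRing R) L := FractionRing.isScalarTower_liftAlgebra R L
  have heqL : (algebraMap (FractionRing R) L).comp
      (algebraMap (Localization.AtPrime 𝔭) (FractionRing R)) = locLift R L 𝔭 := by
    apply locRingHom_ext R 𝔭
    intro a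
    rw [RingHom.comp_apply, ← IsScalarTower.algebraMap_apply R (Localization.AtPrime 𝔭)
      (FractionRing R), ← IsScalarTower.algebraMap_apply R (FractionRing R) L]
    exact (locLift_algebraMap R L 𝔭 a).symm
  have hinjAB : Function.Injective
      (algebraMap (Localization.AtPrime 𝔭) (Localization.AtPrime 𝔓)) := by
    have h1 : Function.Injective (algebraMap (Localization.AtPrime 𝔭) (FractionRing R')) := by
      rw [IsScalarTower.algebraMap_eq (Localization.AtPrime 𝔭) (FractionRing R) (FractionRing R')]
      exact (algebraMap (FractionRing R) (FractionRing R')).injective.comp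
        (IsFractionRing.injective (Localization.AtPrime 𝔭) (FractionRing R))
    rw [IsScalarTower.algebraMap_eq (Localization.AtPrime 𝔭) (Localization.AtPrime 𝔓)
      (FractionRing R')] at h1
    rw [RingHom.coe_comp] at h1
    exact Function.Injective.of_comp h1
  have hW : Dominates (Localization.AtPrime 𝔭) ((algebraMap (FractionRing R) L).comp
      (algebraMap (Localization.AtPrime 𝔭) (FractionRing R))) V := by
    rw [heqL]
    exact hdom
  obtain ⟨M', fM', j, j₀, W', hjj₀, hW'V, hW'dom, hgen⟩ :=
    exists_common_extension (B := Localization.AtPrime 𝔭) (L := FractionRing R) (M := L)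
      (M₀ := FractionRing R') (C := Localization.AtPrime 𝔓) hinjAB V hW
  letI algR'M' : Algebra R' M' := (j₀.comp (algebraMap R' (FractionRing R'))).toAlgebra
  have halg : ∀ b : R', algebraMap R' M' b = j₀ (algebraMap R' (FractionRing R') b) := fun b => rfl
  haveI faith : FaithfulSMul R' M' :=
    (faithfulSMul_iff_algebraMap_injective R' M').mpr
      (j₀.injective.comp (IsFractionRing.injective R' (FractionRing R')))
  refine ⟨M', fM', algR'M', faith, j, W', ?_, ?_, hW'V, ?_⟩
  · intro a
    have h1 := congrArg (fun φ => φ (algebraMap R (FractionRing R) a)) hjj₀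
    simp only [RingHom.comp_apply] at h1
    rw [← IsScalarTower.algebraMap_apply R (FractionRing R) L,
      ← IsScalarTower.algebraMap_apply R (FractionRing R) (FractionRing R'),
      IsScalarTower.algebraMap_apply R R' (FractionRing R')] at h1
    rw [h1, halg]
  · intro E hE hE'
    apply hgen E hE
    rintro _ ⟨x, rfl⟩
    obtain ⟨a, b, hb, rfl⟩ := IsFractionRing.div_surjective (A := R') x
    rw [map_div₀]
    exact E.div_mem (hE' ⟨a, rfl⟩) (hE' ⟨b, rfl⟩)
  · have heq : j₀.comp (algebraMap (Localization.AtPrime 𝔓) (FractionRing R')) =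
        locLift R' M' 𝔓 := by
      apply locRingHom_ext R' 𝔓
      intro b
      rw [RingHom.comp_apply, ← IsScalarTower.algebraMap_apply R' (Localization.AtPrime 𝔓)
        (FractionRing R')]
      exact (locLift_algebraMap R' M' 𝔓 b).symm
    rw [← heq]
    exact hW'dom

end CE

end Groth.Agent.Lib.Helper9.AbhGen
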