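import Mathlib
import Groth.Prelude.Def_EtRam
import Groth.Agent.Lib.Helper9.AbhyankarCore

/-!
# Ramification indices in towers of valuation rings (helper9)
-/

universe u

namespace Groth.Agent.Lib.Helper9.AbhGen

open IsLocalRing EtRam Groth.Agent.Lib.Helper9 Groth.Agent.Lib.Helper9.DVRExt
  Groth.Agent.Lib.Helper9.TameBase Groth.Agent.Lib.Helper9.AbhyankarCore

theorem dominates_comap {A : Type u} [CommRing A] [IsLocalRing A] {L L' : Type u} [Field L]
    [Field L'] (g : A →+* L) (i : L →+* L') (V' : ValuationSubring L')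
    (hdom' : Dominates A (i.comp g) V') : Dominates A g (V'.comap i) := by
  refine ⟨fun a => hdom'.1 a, fun a ha => ?_⟩
  rw [valuation_comap_lt_one_iff]
  exact hdom'.2 a ha

set_option maxHeartbeats 1000000 in
/-- ramification indices are multiplicative in towers; in particular they divide. -/
theorem eV_dvd_eV {A : Type u} [CommRing A] [IsDomain A] [IsDiscreteValuationRing A]
    {L L' : Type u} [Field L] [Field L'] (g : A →+* L) (hg : Function.Injective g) (i : L →+* L')
    (V' : ValuationSubring L') (hdom' : Dominates A (i.comp g) V')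
    (hdom : Dominates A g (V'.comap i))
    [IsDiscreteValuationRing V'] [IsDiscreteValuationRing (V'.comap i)] :
    eV g (V'.comap i) hdom ∣ eV (i.comp g) V' hdom' := by
  classical
  obtain ⟨π, hπ⟩ := IsDiscreteValuationRing.exists_irreducible A
  obtain ⟨ϖ, hϖ⟩ := IsDiscreteValuationRing.exists_irreducible (V'.comap i)
  obtain ⟨τ, hτ⟩ := IsDiscreteValuationRing.exists_irreducible V'
  letI algAV : Algebra A (V'.comap i) := (RingHom.codRestrict g (V'.comap i) hdom.1).toAlgebra
  haveI hloc1 : IsLocalHom (algebraMap A (V'.comap i)) := isLocalHom_of_dominates g _ hdom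
  have hinjAV : Function.Injective (algebraMap A (V'.comap i)) := by
    intro a b h
    exact hg (congrArg (fun v : V'.comap i => (v : L)) h)
  obtain ⟨he0, w, hw⟩ := exists_eq_unit_mul_pow hinjAV hπ hϖ
  letI algAV' : Algebra A V' := (RingHom.codRestrict (i.comp g) V' hdom'.1).toAlgebra
  haveI hloc2 : IsLocalHom (algebraMap A V') := isLocalHom_of_dominates _ V' hdom'
  have hinjAV' : Function.Injective (algebraMap A V') := by
    intro a b h
    have h1 : i (g a) = i (g b) := congrArg (fun v : V' => (v : L')) h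
    exact hg (i.injective h1)
  obtain ⟨he0', w', hw'⟩ := exists_eq_unit_mul_pow hinjAV' hπ hτ
  obtain ⟨ιV, hιV⟩ : ∃ ιV : V'.comap i →+* V', ιV = inclOfComap V' i := ⟨_, rfl⟩
  have hιinj : Function.Injective ιV := by
    intro a b hab
    rw [hιV] at hab
    have := congrArg (fun v : V' => (v : L')) hab
    exact Subtype.ext (i.injective this)
  letI algVV' : Algebra (V'.comap i) V' := ιV.toAlgebra
  haveI hloc3 : IsLocalHom (algebraMap (V'.comap i) V') := by
    show IsLocalHom ιV
    rw [hιV]
    exact isLocalHom_inclOfComap V' i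
  obtain ⟨hc0, y, hy⟩ := exists_eq_unit_mul_pow (A := V'.comap i) (V := V') hιinj hϖ hτ
  have hy' : ιV ϖ = y * τ ^ Ideal.ramificationIdx' (maximalIdeal (V'.comap i)) (maximalIdeal V') :=
    hy
  have hcomp : algebraMap A V' π = ιV (algebraMap A (V'.comap i) π) := by
    rw [hιV]
    exact Subtype.ext rfl
  have hkey : (w' : V') * τ ^ (Ideal.ramificationIdx' (maximalIdeal A) (maximalIdeal V')) =
      ((Units.map (ιV : _ →* V') w *
        y ^ (Ideal.ramificationIdx' (maximalIdeal A) (maximalIdeal (V'.comap i))) : V'ˣ) : V') *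
      τ ^ (Ideal.ramificationIdx' (maximalIdeal (V'.comap i)) (maximalIdeal V') *
        Ideal.ramificationIdx' (maximalIdeal A) (maximalIdeal (V'.comap i))) := by
    rw [← hw', hcomp, hw, map_mul, map_pow, hy']
    simp only [Units.val_mul, Units.val_pow_eq_pow_val, Units.coe_map, MonoidHom.coe_coe]
    ring
  have hem := IsDiscreteValuationRing.unit_mul_pow_congr_pow hτ hτ _ _ _ _ hkey
  exact ⟨Ideal.ramificationIdx' (maximalIdeal (V'.comap i)) (maximalIdeal V'), by
    unfold eV
    rw [hem, mul_comm]⟩

end Groth.Agent.Lib.Helper9.AbhGen
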