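import Mathlib
import Groth.Prelude.Def_EtRam
import Groth.Prelude.Def_SGA1
import Groth.Agent.Lib.Helper9.AbhAbs.Trivial

/-!
# A trivial compositum is the fraction field of the Kummer algebra (helper9)
-/

universe u

open IsLocalRing EtRam

namespace Groth.Agent.Lib.Helper9.AbhGen

open Groth.Agent.Lib.Helper9.AbhAbs Groth.Agent.Lib.Helper9.KummerTame

set_option maxHeartbeats 1000000 in
/-- existence of a compositum of `L` with the fraction field of a Kummer algebra. -/
theorem exists_compositum_kummer (R : Type u) [CommRing R] [IsRegularLocalRing R] [IsDomain R]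
    {r : ℕ} (t : Fin r → R) (hm : ∀ i, t i ∈ maximalIdeal R)
    (hf : LinearIndependent (ResidueField R) (fun i => (maximalIdeal R).toCotangent ⟨t i, hm i⟩))
    (n : Fin r → ℕ) (hn : ∀ i, 1 ≤ n i)
    (L : Type u) [Field L] [Algebra R L] [FaithfulSMul R L]
    (hfin : letI := FractionRing.liftAlgebra R L; FiniteDimensional (FractionRing R) L)
    (hsep : letI := FractionRing.liftAlgebra R L; Algebra.IsSeparable (FractionRing R) L) :
    ∃ (N : Type u) (_ : Field N) (_ : Algebra (SGA1.kummerAlg R t n) N)
      (_ : FaithfulSMul (SGA1.kummerAlg R t n) N) (i : L →+* N),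
      (∀ a : R, i (algebraMap R L a) =
        algebraMap (SGA1.kummerAlg R t n) N (algebraMap R (SGA1.kummerAlg R t n) a)) ∧
      (∀ E : Subfield N, Set.range i ⊆ E →
        Set.range (algebraMap (SGA1.kummerAlg R t n) N) ⊆ E → E = ⊤) := by
  classical
  haveI hreg : IsRegularLocalRing (SGA1.kummerAlg R t n) :=
    isRegularLocalRing_kummer R t hm hf n hn
  haveI : IsDomain (SGA1.kummerAlg R t n) :=
    Groth.Agent.Lib.Helper85.isDomain_of_isRegularLocalRing _
  have hinjAB : Function.Injective (algebraMap R (SGA1.kummerAlg R t n)) :=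
    algebraMap_kummer_injective R t n hn
  letI algKL : Algebra (FractionRing R) L := FractionRing.liftAlgebra R L
  haveI : IsScalarTower R (FractionRing R) L := FractionRing.isScalarTower_liftAlgebra R _
  haveI : FiniteDimensional (FractionRing R) L := hfin
  haveI : Algebra.IsSeparable (FractionRing R) L := hsep
  haveI : FaithfulSMul R (FractionRing (SGA1.kummerAlg R t n)) :=
    (faithfulSMul_iff_algebraMap_injective R (FractionRing (SGA1.kummerAlg R t n))).mpr (by
      rw [IsScalarTower.algebraMap_eq R (SGA1.kummerAlg R t n)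
        (FractionRing (SGA1.kummerAlg R t n))]
      exact (IsFractionRing.injective (SGA1.kummerAlg R t n)
        (FractionRing (SGA1.kummerAlg R t n))).comp hinjAB)
  letI algKK' : Algebra (FractionRing R) (FractionRing (SGA1.kummerAlg R t n)) :=
    FractionRing.liftAlgebra R (FractionRing (SGA1.kummerAlg R t n))
  haveI : IsScalarTower R (FractionRing R) (FractionRing (SGA1.kummerAlg R t n)) :=
    FractionRing.isScalarTower_liftAlgebra R _
  obtain ⟨N, fN, algN, jK, -, -, hjK, hgenN⟩ :=
    Groth.Agent.Lib.Helper9.TameBC.exists_compositum (FractionRing R)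
      (FractionRing (SGA1.kummerAlg R t n)) L
  letI algBN : Algebra (SGA1.kummerAlg R t n) N :=
    ((algebraMap (FractionRing (SGA1.kummerAlg R t n)) N).comp
      (algebraMap (SGA1.kummerAlg R t n) (FractionRing (SGA1.kummerAlg R t n)))).toAlgebra
  have hinjBN : Function.Injective (algebraMap (SGA1.kummerAlg R t n) N) :=
    (algebraMap (FractionRing (SGA1.kummerAlg R t n)) N).injective.comp
      (IsFractionRing.injective (SGA1.kummerAlg R t n) (FractionRing (SGA1.kummerAlg R t n)))
  refine ⟨N, fN, algBN, (faithfulSMul_iff_algebraMap_injective _ _).mpr hinjBN, jK, ?_, ?_⟩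
  · intro a
    rw [IsScalarTower.algebraMap_apply R (FractionRing R) L, hjK,
      ← IsScalarTower.algebraMap_apply R (FractionRing R) (FractionRing (SGA1.kummerAlg R t n)),
      IsScalarTower.algebraMap_apply R (SGA1.kummerAlg R t n)
        (FractionRing (SGA1.kummerAlg R t n))]
    rfl
  · intro E' h1 h2
    refine hgenN E' ?_ (fun y => h1 ⟨y, rfl⟩)
    intro x
    obtain ⟨a, b, hb, rfl⟩ := IsFractionRing.div_surjective (A := SGA1.kummerAlg R t n) x
    rw [map_div₀]
    exact div_mem (h2 ⟨a, rfl⟩) (h2 ⟨b, rfl⟩)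

theorem isFractionRing_of_triv (R : Type u) [CommRing R] {r : ℕ} (t : Fin r → R)
    (n : Fin r → ℕ) (L : Type u) [Field L] [Algebra R L] (hT : Triv R t n L)
    (N : Type u) [Field N] [Algebra (SGA1.kummerAlg R t n) N]
    [FaithfulSMul (SGA1.kummerAlg R t n) N] (i : L →+* N)
    (hcompat : ∀ a : R, i (algebraMap R L a) =
      algebraMap (SGA1.kummerAlg R t n) N (algebraMap R (SGA1.kummerAlg R t n) a))
    (hgen : ∀ E : Subfield N, Set.range i ⊆ E →
      Set.range (algebraMap (SGA1.kummerAlg R t n) N) ⊆ E → E = ⊤) :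
    IsFractionRing (SGA1.kummerAlg R t n) N := by
  have htriv := hT N i hcompat hgen
  apply IsFractionRing.of_field
  intro z
  obtain ⟨a, b, hb, hz⟩ := htriv z
  refine ⟨a, b, ?_⟩
  have hb' : algebraMap (SGA1.kummerAlg R t n) N b ≠ 0 := by
    rw [Ne, map_eq_zero_iff _ (FaithfulSMul.algebraMap_injective _ _)]
    exact hb
  rw [eq_div_iff hb', hz]

end Groth.Agent.Lib.Helper9.AbhGen
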