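import Mathlib
import Groth.Prelude.Def_EtRam
import Groth.Prelude.Def_SGA1
import Groth.Agent.Lib.Helper9.AbhGen.TrivField
import Groth.Agent.Lib.Helper9.AbhGen.TowerDvd
import Groth.Agent.Lib.Helper9.KummerTame.Main

/-!
# If a Kummer extension trivializes `L`, the ramification indices of `L` divide its exponents
(helper9)
-/

universe u

open IsLocalRing EtRam

namespace Groth.Agent.Lib.Helper9.AbhGen

open Groth.Agent.Lib.Helper9.AbhAbs Groth.Agent.Lib.Helper9.KummerTame
  Groth.Agent.Lib.Helper9.AbhyankarCore Groth.Agent.Lib.Helper9.DVRExt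
  Groth.Agent.Lib.Helper9.TameBase

section DVRofLoc

variable (R : Type u) [CommRing R] [IsDomain R]
  (𝔭 : Ideal R) [𝔭.IsPrime] [IsDiscreteValuationRing (Localization.AtPrime 𝔭)]
  (L : Type u) [Field L] [Algebra R L] [FaithfulSMul R L]
  (hfin : letI := FractionRing.liftAlgebra R L; FiniteDimensional (FractionRing R) L)
  (hsep : letI := FractionRing.liftAlgebra R L; Algebra.IsSeparable (FractionRing R) L)

include hfin hsep in
/-- valuation subrings of `L` dominating the DVR `R_𝔭` are DVRs. -/
theorem isDVR_of_dominates_locLift (V : ValuationSubring L)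
    (hdom : Dominates (Localization.AtPrime 𝔭) (locLift R L 𝔭) V) :
    IsDiscreteValuationRing V := by
  classical
  letI algAK : Algebra (Localization.AtPrime 𝔭) (FractionRing R) :=
    (locLift R (FractionRing R) 𝔭).toAlgebra
  haveI towRAK : IsScalarTower R (Localization.AtPrime 𝔭) (FractionRing R) :=
    IsScalarTower.of_algebraMap_eq (fun a => (locLift_algebraMap R (FractionRing R) 𝔭 a).symm)
  haveI : IsFractionRing (Localization.AtPrime 𝔭) (FractionRing R) :=
    IsFractionRing.isFractionRing_of_isDomain_of_isLocalization 𝔭.primeCompl _ _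
  letI algKL : Algebra (FractionRing R) L := FractionRing.liftAlgebra R L
  letI algAL : Algebra (Localization.AtPrime 𝔭) L := (locLift R L 𝔭).toAlgebra
  haveI towAKL : IsScalarTower (Localization.AtPrime 𝔭) (FractionRing R) L := by
    apply IsScalarTower.of_algebraMap_eq'
    apply locRingHom_ext R 𝔭
    intro a
    rw [RingHom.comp_apply, ← IsScalarTower.algebraMap_apply R (Localization.AtPrime 𝔭) (FractionRing R),
      ← IsScalarTower.algebraMap_apply R (FractionRing R) L]
    exact locLift_algebraMap R L 𝔭 a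
  haveI : FiniteDimensional (FractionRing R) L := hfin
  haveI : Algebra.IsSeparable (FractionRing R) L := hsep
  exact isDiscreteValuationRing_of_dominates (Localization.AtPrime 𝔭) (FractionRing R) V hdom

end DVRofLoc

section Main

variable (R : Type u) [CommRing R] [IsRegularLocalRing R] [IsDomain R] {r : ℕ} (t : Fin r → R)
  (hm : ∀ i, t i ∈ maximalIdeal R)
  (hf : LinearIndependent (ResidueField R) (fun i => (maximalIdeal R).toCotangent ⟨t i, hm i⟩))
  (n : Fin r → ℕ) (hn : ∀ i, 1 ≤ n i)
  (L : Type u) [Field L] [Algebra R L] [FaithfulSMul R L]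
  (hfin : letI := FractionRing.liftAlgebra R L; FiniteDimensional (FractionRing R) L)
  (hsep : letI := FractionRing.liftAlgebra R L; Algebra.IsSeparable (FractionRing R) L)

include hm hf hn hfin hsep in
set_option maxHeartbeats 2000000 in
theorem eV_dvd_of_triv (hT : Triv R t n L) (j : Fin r) [(Ideal.span ({t j} : Set R)).IsPrime]
    (V : ValuationSubring L)
    (hdom : Dominates (Localization.AtPrime (Ideal.span ({t j} : Set R)))
      (locLift R L (Ideal.span ({t j} : Set R))) V) :
    eV (locLift R L (Ideal.span ({t j} : Set R))) V hdom ∣ n j := by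
  classical
  haveI hreg : IsRegularLocalRing (SGA1.kummerAlg R t n) :=
    isRegularLocalRing_kummer R t hm hf n hn
  haveI : IsDomain (SGA1.kummerAlg R t n) :=
    Groth.Agent.Lib.Helper85.isDomain_of_isRegularLocalRing _
  haveI := isIntegral_kummer R t n hn
  haveI := faithfulSMul_kummer R t n hn
  obtain ⟨N, fN, algBN, faithBN, i, hcompat, hgen⟩ :=
    exists_compositum_kummer R t hm hf n hn L hfin hsep
  haveI hfr : IsFractionRing (SGA1.kummerAlg R t n) N :=
    isFractionRing_of_triv R t n L hT N i hcompat hgen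
  obtain ⟨V'', hV''⟩ := exists_extension V i
  subst hV''
  have h𝔭ht : (Ideal.span ({t j} : Set R)).height = 1 :=
    height_span_singleton _ (ne_zero_of_linearIndependent t hm hf j)
  haveI := isDVR_of_height_eq_one R _ h𝔭ht
  haveI hPT := isPrime_span_T R t hm hf n hn j
  have hTht : (Ideal.span ({T t n j} : Set (SGA1.kummerAlg R t n))).height = 1 :=
    height_span_singleton _ (T_ne_zero R t hm hf n hn j)
  haveI := isDVR_of_height_eq_one (SGA1.kummerAlg R t n) _ hTht
  have hg : Function.Injective (locLift R L (Ideal.span ({t j} : Set R))) :=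
    locLift_injective R L _
  have hdom'' : Dominates (Localization.AtPrime (Ideal.span ({t j} : Set R)))
      (i.comp (locLift R L (Ideal.span ({t j} : Set R)))) V'' :=
    ⟨fun a => hdom.1 a, fun a ha => (valuation_comap_lt_one_iff V'' i _).mp (hdom.2 a ha)⟩
  have hloc : ∀ a : R, i (locLift R L (Ideal.span ({t j} : Set R))
      (algebraMap R (Localization.AtPrime (Ideal.span ({t j} : Set R))) a)) =
      algebraMap (SGA1.kummerAlg R t n) N (algebraMap R (SGA1.kummerAlg R t n) a) := by
    intro a
    rw [locLift_algebraMap, hcompat]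
  have hRmem : ∀ a : R,
      algebraMap (SGA1.kummerAlg R t n) N (algebraMap R (SGA1.kummerAlg R t n) a) ∈ V'' := by
    intro a
    rw [← hloc]
    exact hdom''.1 _
  letI algRN : Algebra R N :=
    ((algebraMap (SGA1.kummerAlg R t n) N).comp (algebraMap R (SGA1.kummerAlg R t n))).toAlgebra
  have hBmem : ∀ b : SGA1.kummerAlg R t n, algebraMap (SGA1.kummerAlg R t n) N b ∈ V'' := by
    intro b
    apply mem_of_isIntegral V'' hRmem
    obtain ⟨p, hpm, hp⟩ := Algebra.IsIntegral.isIntegral (R := R) b
    refine ⟨p, hpm, ?_⟩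
    show Polynomial.eval₂ ((algebraMap (SGA1.kummerAlg R t n) N).comp
      (algebraMap R (SGA1.kummerAlg R t n))) _ p = 0
    rw [← Polynomial.hom_eval₂, hp, map_zero]
  obtain ⟨β, hβ⟩ : ∃ β : SGA1.kummerAlg R t n →+* V'',
      β = (algebraMap (SGA1.kummerAlg R t n) N).codRestrict V'' hBmem := ⟨_, rfl⟩
  have hβc : ∀ b, ((β b : V'') : N) = algebraMap (SGA1.kummerAlg R t n) N b := by
    intro b
    rw [hβ]
    rfl
  obtain ⟨𝔓, h𝔓def⟩ : ∃ 𝔓 : Ideal (SGA1.kummerAlg R t n), 𝔓 = (maximalIdeal V'').comap β :=
    ⟨_, rfl⟩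
  haveI h𝔓prime : 𝔓.IsPrime := by
    rw [h𝔓def]
    exact Ideal.comap_isPrime β _
  have hval : ∀ b, b ∈ 𝔓 ↔ V''.valuation (algebraMap (SGA1.kummerAlg R t n) N b) < 1 := by
    intro b
    rw [h𝔓def, Ideal.mem_comap, ← hβc]
    exact ValuationSubring.valuation_lt_one_iff V'' _
  have htjmax : algebraMap R (Localization.AtPrime (Ideal.span ({t j} : Set R))) (t j) ∈
      maximalIdeal (Localization.AtPrime (Ideal.span ({t j} : Set R))) :=
    (IsLocalization.AtPrime.to_map_mem_maximal_iff _ (Ideal.span ({t j} : Set R)) _).mpr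
      (Ideal.mem_span_singleton_self _)
  have hTj : T t n j ∈ 𝔓 := by
    rw [hval]
    apply valuation_lt_one_of_pow V'' (n := n j) (by have := hn j; omega)
    rw [← map_pow, T_pow, ← hloc]
    exact hdom''.2 _ htjmax
  have hunder : 𝔓.comap (algebraMap R (SGA1.kummerAlg R t n)) = Ideal.span ({t j} : Set R) := by
    ext a
    rw [Ideal.mem_comap, hval, ← hloc]
    constructor
    · intro h
      by_contra ha
      have hu : IsUnit (algebraMap R (Localization.AtPrime (Ideal.span ({t j} : Set R))) a) :=
        IsLocalization.map_units _ (⟨a, ha⟩ : (Ideal.span ({t j} : Set R)).primeCompl)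
      have hu' : IsUnit (RingHom.codRestrict
          (i.comp (locLift R L (Ideal.span ({t j} : Set R)))) V'' hdom''.1
          (algebraMap R (Localization.AtPrime (Ideal.span ({t j} : Set R))) a)) := hu.map _
      have h1 := (V''.valuation_eq_one_iff _).mp hu'
      exact h.ne h1
    · intro ha
      exact hdom''.2 _
        ((IsLocalization.AtPrime.to_map_mem_maximal_iff _ (Ideal.span ({t j} : Set R)) a).mpr ha)
  haveI hlies := liesOver_span_T R t hm hf n hn j
  have h𝔓eq : Ideal.span ({T t n j} : Set (SGA1.kummerAlg R t n)) = 𝔓 := by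
    by_contra hne
    have hle : Ideal.span ({T t n j} : Set (SGA1.kummerAlg R t n)) ≤ 𝔓 :=
      (Ideal.span_singleton_le_iff_mem _).mpr hTj
    have hlt := lt_of_le_of_ne hle hne
    obtain ⟨x, hx𝔓, hxT⟩ := SetLike.exists_of_lt hlt
    have h1 := Ideal.comap_lt_comap_of_integral_mem_sdiff hle ⟨hx𝔓, hxT⟩
      (Algebra.IsIntegral.isIntegral (R := R) x)
    rw [hunder] at h1
    have h2 : (Ideal.span ({T t n j} : Set (SGA1.kummerAlg R t n))).comap
        (algebraMap R (SGA1.kummerAlg R t n)) = Ideal.span ({t j} : Set R) :=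
      (Ideal.LiesOver.over (p := Ideal.span ({t j} : Set R))
        (P := Ideal.span ({T t n j} : Set (SGA1.kummerAlg R t n)))).symm
    rw [h2] at h1
    exact lt_irrefl _ h1
  have hunits : ∀ y : (Ideal.span ({T t n j} : Set (SGA1.kummerAlg R t n))).primeCompl,
      IsUnit (β y) := by
    intro y
    by_contra hnu
    apply y.2
    have h1 : (y : SGA1.kummerAlg R t n) ∈ 𝔓 := by
      rw [h𝔓def]
      exact hnu
    exact (SetLike.ext_iff.mp h𝔓eq (y : SGA1.kummerAlg R t n)).mpr h1
  obtain ⟨χ, hχdef⟩ : ∃ χ : Localization.AtPrime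
      (Ideal.span ({T t n j} : Set (SGA1.kummerAlg R t n))) →+* V'',
      χ = IsLocalization.lift
        (M := (Ideal.span ({T t n j} : Set (SGA1.kummerAlg R t n))).primeCompl) hunits := ⟨_, rfl⟩
  have hχ : ∀ b, χ (algebraMap (SGA1.kummerAlg R t n) _ b) = β b := by
    intro b
    rw [hχdef]
    exact IsLocalization.lift_eq hunits b
  have hτ : Irreducible (algebraMap (SGA1.kummerAlg R t n)
      (Localization.AtPrime (Ideal.span ({T t n j} : Set (SGA1.kummerAlg R t n)))) (T t n j)) :=
    (isDVR_localization_principal (T t n j) (T_ne_zero R t hm hf n hn j)).2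
  have hχτ : ¬ IsUnit (χ (algebraMap (SGA1.kummerAlg R t n) _ (T t n j))) := by
    rw [hχ]
    have : T t n j ∈ (maximalIdeal V'').comap β := h𝔓def ▸ hTj
    exact this
  haveI hlocχ : IsLocalHom χ :=
    isLocalHom_of_uniformizer (D := Localization.AtPrime
      (Ideal.span ({T t n j} : Set (SGA1.kummerAlg R t n)))) (R := V'') χ
      (ϖ := algebraMap (SGA1.kummerAlg R t n) _ (T t n j)) hτ hχτ
  have hinjBN : Function.Injective (algebraMap (SGA1.kummerAlg R t n) N) :=
    FaithfulSMul.algebraMap_injective _ _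
  have hχinj : Function.Injective χ := by
    apply injective_of_uniformizer (D := Localization.AtPrime
      (Ideal.span ({T t n j} : Set (SGA1.kummerAlg R t n)))) (R := V'') χ
      (ϖ := algebraMap (SGA1.kummerAlg R t n) _ (T t n j)) hτ
    rw [hχ]
    intro h0
    have h1 : algebraMap (SGA1.kummerAlg R t n) N (T t n j) = 0 := by
      rw [← hβc, h0]
      rfl
    exact T_ne_zero R t hm hf n hn j (hinjBN (by rw [h1, map_zero]))
  have hχbij : Function.Bijective χ := by
    apply bijective_of_generates (D := Localization.AtPrime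
      (Ideal.span ({T t n j} : Set (SGA1.kummerAlg R t n)))) V'' χ hχinj
    intro E hE
    rw [eq_top_iff]
    intro x _
    obtain ⟨a, b, hb, rfl⟩ := IsFractionRing.div_surjective (A := SGA1.kummerAlg R t n) x
    refine div_mem ?_ ?_
    · have := hE (algebraMap (SGA1.kummerAlg R t n) _ a)
      rwa [hχ, hβc] at this
    · have := hE (algebraMap (SGA1.kummerAlg R t n) _ b)
      rwa [hχ, hβc] at this
  haveI hdvrV'' : IsDiscreteValuationRing V'' :=
    IsDiscreteValuationRing.RingEquivClass.isDiscreteValuationRing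
      (RingEquiv.ofBijective χ hχbij)
  have hτ'' : Irreducible (χ (algebraMap (SGA1.kummerAlg R t n) _ (T t n j))) :=
    (MulEquiv.irreducible_iff (RingEquiv.ofBijective χ hχbij).toMulEquiv).mpr hτ
  letI algA₀V'' : Algebra (Localization.AtPrime (Ideal.span ({t j} : Set R))) V'' :=
    (RingHom.codRestrict (i.comp (locLift R L (Ideal.span ({t j} : Set R)))) V''
      hdom''.1).toAlgebra
  haveI hloc'' : IsLocalHom (algebraMap (Localization.AtPrime (Ideal.span ({t j} : Set R))) V'') :=
    isLocalHom_of_dominates _ V'' hdom''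
  have hinjA₀V'' : Function.Injective
      (algebraMap (Localization.AtPrime (Ideal.span ({t j} : Set R))) V'') := by
    intro a b h
    have h1 : i (locLift R L _ a) = i (locLift R L _ b) := congrArg (fun v : V'' => (v : N)) h
    exact hg (i.injective h1)
  have hπ : Irreducible (algebraMap R (Localization.AtPrime (Ideal.span ({t j} : Set R)))
      (t j)) := by
    rw [IsDiscreteValuationRing.irreducible_iff_uniformizer,
      ← Localization.AtPrime.map_eq_maximalIdeal, Ideal.map_span, Set.image_singleton]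
  obtain ⟨he0, w, hw⟩ := exists_eq_unit_mul_pow hinjA₀V'' hπ hτ''
  have hpow : algebraMap (Localization.AtPrime (Ideal.span ({t j} : Set R))) V''
      (algebraMap R _ (t j)) =
      ((1 : V''ˣ) : V'') * (χ (algebraMap (SGA1.kummerAlg R t n) _ (T t n j))) ^ (n j) := by
    rw [Units.val_one, one_mul, hχ]
    apply Subtype.ext
    rw [SubmonoidClass.coe_pow, hβc, ← map_pow, T_pow, ← hloc]
    rfl
  have heq : Ideal.ramificationIdx'
      (maximalIdeal (Localization.AtPrime (Ideal.span ({t j} : Set R)))) (maximalIdeal V'') = n j :=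
    IsDiscreteValuationRing.unit_mul_pow_congr_pow hτ'' hτ'' w 1 _ _ (hw.symm.trans hpow)
  haveI hdvrV : IsDiscreteValuationRing (V''.comap i) :=
    isDVR_of_dominates_locLift R (Ideal.span ({t j} : Set R)) L hfin hsep _ hdom
  have hdvd := eV_dvd_eV (locLift R L (Ideal.span ({t j} : Set R))) hg i V'' hdom'' hdom
  have heV : eV (i.comp (locLift R L (Ideal.span ({t j} : Set R)))) V'' hdom'' = n j := heq
  rw [heV] at hdvd
  exact hdvd

end Main

end Groth.Agent.Lib.Helper9.AbhGen
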