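import Mathlib
import Groth.Prelude.Def_EtRam
import Groth.Prelude.Def_SGA1
import Groth.Agent.Lib.Helper9.AbhSch.GoodOfEtale
import Groth.Agent.Lib.Helper9.AbhSch.ResField

/-!
# Residue fields at generic points of a finite étale algebra over `A[1/F]` are good (helper9)

Generalization of `AbhSch.good_of_etale` to finite étale algebras which are not domains.
-/

universe u

open IsLocalRing EtRam TensorProduct

namespace Groth.Agent.Lib.Helper9.AbhGen

open Groth.Agent.Lib.Helper9.AbhAbs Groth.Agent.Lib.Helper9.KummerTame
  Groth.Agent.Lib.Helper9.AbhSch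

section Tensor

variable (R E L B : Type u) [CommRing R] [CommRing E] [Field L] [Algebra R E]
  [Algebra E L] [Algebra R L] [IsScalarTower R E L] [CommRing B] [Algebra R B]
  [Algebra B L] [IsScalarTower R B L]
  (hgenE : ∀ F : Subfield L, (∀ e : E, algebraMap E L e ∈ F) → F = ⊤)

/-- the canonical map `B ⊗[R] E → L`. -/
noncomputable def tensorLift' : B ⊗[R] E →ₐ[B] L :=
  Algebra.TensorProduct.lift (Algebra.ofId B L) (IsScalarTower.toAlgHom R E L)
    (fun _ _ => mul_comm _ _)

theorem tensorLift'_left (b : B) : tensorLift' R E L B (b ⊗ₜ 1) = algebraMap B L b := by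
  simp [tensorLift', Algebra.ofId_apply]

theorem tensorLift'_right (e : E) : tensorLift' R E L B (1 ⊗ₜ e) = algebraMap E L e := by
  simp [tensorLift']

include hgenE in
theorem eq_top_of_range_tensorLift'_le (F : Subfield L)
    (h : ∀ c, tensorLift' R E L B c ∈ F) : F = ⊤ := by
  apply hgenE
  intro e
  rw [← tensorLift'_right R E L B]
  exact h _

include hgenE in
theorem unram_tensor' [IsDomain B] [IsDiscreteValuationRing B] [Module.Finite R E]
    [Algebra.Etale R E] (hinj : Function.Injective (algebraMap B L)) :
    IsUnramifiedExt B (algebraMap B L) := by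
  haveI : Algebra.Etale B (B ⊗[R] E) := inferInstance
  haveI : Module.Finite B (B ⊗[R] E) := inferInstance
  haveI : Algebra.IsIntegral B (B ⊗[R] E) := Algebra.IsIntegral.of_finite _ _
  refine unram_of_etale B (B ⊗[R] E) (algebraMap B L) hinj (tensorLift' R E L B).toRingHom
    (fun b => ?_) (fun F hF => eq_top_of_range_tensorLift'_le R E L B hgenE F hF)
  exact (tensorLift' R E L B).commutes b

end Tensor

section Field

variable (R E L K : Type u) [CommRing R] [CommRing E] [Field L] [Algebra R E]
  [Algebra E L] [Algebra R L] [IsScalarTower R E L] [Field K] [Algebra R K]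
  [Algebra K L] [IsScalarTower R K L]
  (hgenE : ∀ F : Subfield L, (∀ e : E, algebraMap E L e ∈ F) → F = ⊤)

include hgenE in
set_option maxHeartbeats 1000000 in
theorem finsep_tensor' [Module.Finite R E] [Algebra.Etale R E] :
    FiniteDimensional K L ∧ Algebra.IsSeparable K L := by
  classical
  obtain ⟨ψ, hψ⟩ : ∃ ψ : K ⊗[R] E →ₐ[K] L, ψ = tensorLift' R E L K := ⟨_, rfl⟩
  haveI : Module.Finite K (K ⊗[R] E) := inferInstance
  haveI hfinr : Module.Finite K ψ.range :=
    Module.Finite.of_surjective ψ.rangeRestrict.toLinearMap ψ.rangeRestrict_surjective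
  haveI : IsArtinianRing ψ.range := IsArtinianRing.of_finite K _
  have hfield : IsField ψ.range := IsArtinianRing.isField_of_isDomain _
  let F : Subfield L :=
    { ψ.range.toSubring with
      inv_mem' := by
        intro x hx
        by_cases hx0 : x = 0
        · rw [hx0, inv_zero]
          exact ψ.range.zero_mem
        · obtain ⟨y, hy⟩ := hfield.mul_inv_cancel (a := ⟨x, hx⟩)
            (fun h => hx0 (congrArg Subtype.val h))
          have h1 : x * (y : L) = 1 := congrArg Subtype.val hy
          have h2 : x⁻¹ = (y : L) := inv_eq_of_mul_eq_one_right h1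
          rw [h2]
          exact y.2 }
  have hF : F = ⊤ := by
    apply eq_top_of_range_tensorLift'_le R E L K hgenE
    intro c
    exact ⟨c, by rw [hψ]; rfl⟩
  have hsurj : Function.Surjective ψ := by
    intro x
    have hx : x ∈ F := by rw [hF]; trivial
    exact hx
  haveI : Algebra.Etale K (K ⊗[R] E) := inferInstance
  haveI : Algebra.FormallyUnramified K (K ⊗[R] E) := inferInstance
  haveI : Algebra.FormallyUnramified K L := Algebra.FormallyUnramified.of_surjective ψ hsurj
  haveI hfd : Module.Finite K L := Module.Finite.of_surjective ψ.toLinearMap hsurj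
  exact ⟨hfd, Algebra.FormallyUnramified.isSeparable K L⟩

end Field

section Good

variable (A : Type u) [CommRing A] [IsRegularLocalRing A] [IsDomain A] {r : ℕ} (f : Fin r → A)
  (Aloc : Type u) [CommRing Aloc] [Algebra A Aloc] [IsLocalization.Away (∏ i, f i) Aloc]
  (E : Type u) [CommRing E] [Algebra A E] [Algebra Aloc E] [IsScalarTower A Aloc E]
  [Module.Finite Aloc E] [Algebra.Etale Aloc E]
  (L : Type u) [Field L] [Algebra E L] [Algebra A L] [IsScalarTower A E L]
  (hgenE : ∀ F : Subfield L, (∀ e : E, algebraMap E L e ∈ F) → F = ⊤)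

include Aloc E hgenE in
set_option maxHeartbeats 1000000 in
theorem good_of_etale' [FaithfulSMul A L]
    (htame : ∀ (i : Fin r) [(Ideal.span ({f i} : Set A)).IsPrime],
      IsTamelyRamified (Localization.AtPrime (Ideal.span ({f i} : Set A)))
        (locLift A L (Ideal.span ({f i} : Set A)))) :
    Good A f L := by
  classical
  letI algAlocL : Algebra Aloc L := ((algebraMap E L).comp (algebraMap Aloc E)).toAlgebra
  haveI t1 : IsScalarTower Aloc E L := IsScalarTower.of_algebraMap_eq (fun _ => rfl)
  haveI t2 : IsScalarTower A Aloc L := by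
    apply IsScalarTower.of_algebraMap_eq
    intro a
    rw [IsScalarTower.algebraMap_apply A E L, IsScalarTower.algebraMap_apply Aloc E L,
      ← IsScalarTower.algebraMap_apply A Aloc E]
  have hF : (∏ i, f i) ≠ 0 := by
    intro h0
    have h1 : IsUnit (algebraMap A L (∏ i, f i)) := by
      rw [IsScalarTower.algebraMap_apply A Aloc L]
      exact (IsLocalization.Away.algebraMap_isUnit (∏ i, f i)).map _
    rw [h0, map_zero] at h1
    exact not_isUnit_zero h1
  have hfs : letI := FractionRing.liftAlgebra A L
      FiniteDimensional (FractionRing A) L ∧ Algebra.IsSeparable (FractionRing A) L := by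
    letI := FractionRing.liftAlgebra A L
    haveI : IsScalarTower A (FractionRing A) L := FractionRing.isScalarTower_liftAlgebra A L
    have hu : IsUnit (algebraMap A (FractionRing A) (∏ i, f i)) := by
      rw [isUnit_iff_ne_zero, Ne, map_eq_zero_iff _ (IsFractionRing.injective A (FractionRing A))]
      exact hF
    obtain ⟨inst, h1, h2⟩ := exists_algebra_of_isUnit A (∏ i, f i) Aloc L (FractionRing A) hu
    exact finsep_tensor' Aloc E L (FractionRing A) hgenE
  refine ⟨hfs.1, hfs.2, ?_, htame⟩
  intro 𝔭 _ h𝔭 hF𝔭
  haveI := isDVR_of_height_eq_one A 𝔭 h𝔭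
  letI algBL : Algebra (Localization.AtPrime 𝔭) L := (locLift A L 𝔭).toAlgebra
  haveI : IsScalarTower A (Localization.AtPrime 𝔭) L :=
    IsScalarTower.of_algebraMap_eq (fun a => (locLift_algebraMap A L 𝔭 a).symm)
  obtain ⟨inst, h1, h2⟩ := exists_algebra_of_isUnit A (∏ i, f i) Aloc L (Localization.AtPrime 𝔭)
    (IsLocalization.map_units (Localization.AtPrime 𝔭) (⟨_, hF𝔭⟩ : 𝔭.primeCompl))
  exact unram_tensor' Aloc E L (Localization.AtPrime 𝔭) hgenE (locLift_injective A L 𝔭)

end Good

section ResField

variable (A : Type u) [CommRing A] [IsRegularLocalRing A] [IsDomain A] {r : ℕ} (f : Fin r → A)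
  [∀ i, (Ideal.span {f i}).IsPrime]
  (Aloc : Type u) [CommRing Aloc] [Algebra A Aloc] [IsLocalization.Away (∏ i, f i) Aloc]
  (E : Type u) [CommRing E] [Algebra A E] [Algebra Aloc E] [IsScalarTower A Aloc E]
  [Module.Finite Aloc E] [Algebra.Etale Aloc E]
  (q : Ideal E) [q.IsPrime] (hq : Ideal.comap (algebraMap A E) q = ⊥)

/-- the `A`-algebra structure on the residue field of a prime of `E`. -/
@[reducible] noncomputable def algResField : Algebra A q.ResidueField :=
  ((algebraMap E q.ResidueField).comp (algebraMap A E)).toAlgebra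

theorem isScalarTower_resField :
    letI := algResField A E q
    IsScalarTower A E q.ResidueField :=
  letI := algResField A E q
  IsScalarTower.of_algebraMap_eq (fun _ => rfl)

include hq in
theorem faithfulSMul_resField :
    letI := algResField A E q
    FaithfulSMul A q.ResidueField := by
  letI := algResField A E q
  rw [faithfulSMul_iff_algebraMap_injective, injective_iff_map_eq_zero]
  intro a ha
  have h1 : algebraMap E q.ResidueField (algebraMap A E a) = 0 := ha
  rw [← RingHom.mem_ker, Ideal.ker_algebraMap_residueField] at h1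
  have h2 : a ∈ Ideal.comap (algebraMap A E) q := h1
  rw [hq, Ideal.mem_bot] at h2
  exact h2

theorem gen_resField (F : Subfield q.ResidueField)
    (h : ∀ e : E, algebraMap E q.ResidueField e ∈ F) : F = ⊤ := by
  rw [eq_top_iff]
  intro x _
  obtain ⟨a, b, -, rfl⟩ := IsFractionRing.div_surjective (A := E ⧸ q) x
  obtain ⟨a, rfl⟩ := Ideal.Quotient.mk_surjective a
  obtain ⟨b, rfl⟩ := Ideal.Quotient.mk_surjective b
  exact div_mem (h a) (h b)

include hq in
theorem genericResidueMap_eq_locLift' (P : Ideal A) [P.IsPrime] :
    letI := algResField A E q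
    haveI := faithfulSMul_resField A E q hq
    SGA1.genericResidueMap (algebraMap A E) P q hq = locLift A q.ResidueField P := by
  letI := algResField A E q
  haveI := faithfulSMul_resField A E q hq
  apply locRingHom_ext A P
  intro a
  rw [genericResidueMap_algebraMap, locLift_algebraMap]
  rfl

include Aloc hq in
theorem good_resField (htame : SGA1.IsTameAlong f (algebraMap A E)) :
    letI := algResField A E q
    haveI := faithfulSMul_resField A E q hq
    Good A f q.ResidueField := by
  letI := algResField A E q
  haveI := faithfulSMul_resField A E q hq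
  haveI := isScalarTower_resField A E q
  refine good_of_etale' A f Aloc E q.ResidueField (gen_resField E q) ?_
  intro i _
  rw [← genericResidueMap_eq_locLift' A E q hq]
  exact htame i q hq

end ResField

end Groth.Agent.Lib.Helper9.AbhGen
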