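import Mathlib
import Groth.Prelude.Def_SGA1
import Groth.Agent.Lib.Helper9.AbhAbs.KummerSetting
import Groth.Agent.Lib.Helper9.AbhAbs.HeightOne

/-!
# Passing part of a regular system of parameters along a local flat map with `𝔪 R' = 𝔪'`
(helper9)
-/

universe u

open IsLocalRing

namespace Groth.Agent.Lib.Helper9.AbhGen

open Groth.Agent.Lib.Helper9.AbhAbs

section Map

variable (R R' : Type u) [CommRing R] [IsRegularLocalRing R] [CommRing R'] [IsRegularLocalRing R']
  [Algebra R R']
  (hmax : (maximalIdeal R).map (algebraMap R R') = maximalIdeal R')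
  (hdim : ringKrullDim R' = ringKrullDim R)
  {r : ℕ} (t : Fin r → R)
  (hm : ∀ i, t i ∈ maximalIdeal R)
  (hf : LinearIndependent (ResidueField R) (fun i => (maximalIdeal R).toCotangent ⟨t i, hm i⟩))

include hmax hm in
theorem map_mem_maximalIdeal (i : Fin r) : algebraMap R R' (t i) ∈ maximalIdeal R' := by
  rw [← hmax]
  exact Ideal.mem_map_of_mem _ (hm i)

set_option maxHeartbeats 1000000 in
include hmax hdim hf in
/-- the images of part of a regular system of parameters are again part of a regular system of
parameters. -/
theorem linearIndependent_map :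
    LinearIndependent (ResidueField R')
      (fun i => (maximalIdeal R').toCotangent
        ⟨algebraMap R R' (t i), map_mem_maximalIdeal R R' hmax t hm i⟩) := by
  classical
  obtain ⟨e, g, hgm, hmaxgen, hdimeq⟩ := exists_compl_generators R t hm hf
  let F : Fin r ⊕ Fin e → R' :=
    Sum.elim (fun i => algebraMap R R' (t i)) (fun j => algebraMap R R' (g j))
  have hFmem : ∀ z, F z ∈ maximalIdeal R' := by
    rintro (i | j)
    · exact map_mem_maximalIdeal R R' hmax t hm i
    · rw [← hmax]
      exact Ideal.mem_map_of_mem _ (hgm j)
  have hmax' : maximalIdeal R' = Ideal.span (Set.range F) := by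
    apply le_antisymm
    · rw [← hmax, Ideal.map_le_iff_le_comap, hmaxgen, Ideal.span_le]
      rintro x (⟨i, rfl⟩ | ⟨j, rfl⟩)
      · exact Ideal.subset_span ⟨Sum.inl i, rfl⟩
      · exact Ideal.subset_span ⟨Sum.inr j, rfl⟩
    · rw [Ideal.span_le]
      rintro _ ⟨z, rfl⟩
      exact hFmem z
  have hspanR : Submodule.span R'
      (Set.range (fun z => (⟨F z, hFmem z⟩ : maximalIdeal R'))) = ⊤ := by
    apply Submodule.map_injective_of_injective
      (f := (maximalIdeal R').subtype) Subtype.val_injective
    rw [Submodule.map_span, Submodule.map_top, Submodule.range_subtype, ← Set.range_comp]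
    exact hmax'.symm
  have hspan : ⊤ ≤ Submodule.span (ResidueField R')
      (Set.range (fun z => (maximalIdeal R').toCotangent ⟨F z, hFmem z⟩)) := by
    rw [top_le_iff]
    have h1 : Set.range (fun z => (maximalIdeal R').toCotangent
        ⟨F z, hFmem z⟩) = (maximalIdeal R').toCotangent ''
        (Set.range (fun z => (⟨F z, hFmem z⟩ : maximalIdeal R'))) := by
      rw [← Set.range_comp]
      rfl
    rw [h1, IsLocalRing.CotangentSpace.span_image_eq_top_iff]
    exact hspanR
  have hfr : (Module.finrank (ResidueField R') (CotangentSpace R') : WithBot ℕ∞) =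
      ringKrullDim R' :=
    (IsRegularLocalRing.iff_finrank_cotangentSpace _).mp inferInstance
  have hcard : Fintype.card (Fin r ⊕ Fin e) = Module.finrank (ResidueField R')
      (CotangentSpace R') := by
    rw [Fintype.card_sum, Fintype.card_fin, Fintype.card_fin]
    rw [hdim, ← hdimeq] at hfr
    exact_mod_cast hfr.symm
  have hli := linearIndependent_of_top_le_span_of_card_eq_finrank hspan hcard
  exact hli.comp Sum.inl Sum.inl_injective

end Map

end Groth.Agent.Lib.Helper9.AbhGen
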