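import Mathlib
import Groth.Prelude.Def_EtRam
import Groth.Prelude.Def_SGA1
import Groth.Agent.Lib.Helper9.AbhAbs.Good
import Groth.Agent.Lib.Helper9.AbhGen.SHSetup

/-!
# Good extensions stay good after a flat base change with zero-dimensional fibres (helper9)
-/

universe u

open IsLocalRing EtRam

namespace Groth.Agent.Lib.Helper9.AbhGen

open Groth.Agent.Lib.Helper9.AbhAbs Groth.Agent.Lib.Helper9.AbhyankarCore

section Height

variable (R R' : Type u) [CommRing R] [IsDomain R] [IsNoetherianRing R] [CommRing R'] [IsDomain R']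
  [IsNoetherianRing R'] [Algebra R R'] [Module.Flat R R']
  (hinc : ∀ (P Q : Ideal R') [P.IsPrime] [Q.IsPrime], P < Q → P.under R < Q.under R)

include hinc in
theorem height_under_eq_one_of_flat (𝔓 : Ideal R') [𝔓.IsPrime] (h : 𝔓.height = 1) :
    (𝔓.under R).height = 1 := by
  have h𝔓0 : 𝔓 ≠ ⊥ := Ideal.ne_bot_of_height_eq_one h
  apply le_antisymm
  · have key := Ideal.height_eq_height_add_of_liesOver_of_hasGoingDown (𝔓.under R) 𝔓
    rw [h] at key
    rw [key]
    exact le_self_add
  · apply one_le_height_of_ne_bot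
    intro h0
    have h1 := hinc ⊥ 𝔓 (bot_lt_iff_ne_bot.mpr h𝔓0)
    rw [h0] at h1
    exact not_lt_bot h1

end Height

section GoodBC

variable (R R' : Type u) [CommRing R] [IsRegularLocalRing R] [IsDomain R]
  [CommRing R'] [IsRegularLocalRing R'] [IsDomain R'] [Algebra R R'] [FaithfulSMul R R']
  [Module.Flat R R']
  (hinc : ∀ (P Q : Ideal R') [P.IsPrime] [Q.IsPrime], P < Q → P.under R < Q.under R)
  {r : ℕ} (t : Fin r → R)
  (hm : ∀ i, t i ∈ maximalIdeal R)
  (hf : LinearIndependent (ResidueField R) (fun i => (maximalIdeal R).toCotangent ⟨t i, hm i⟩))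
  (hm' : ∀ i, algebraMap R R' (t i) ∈ maximalIdeal R')
  (hf' : LinearIndependent (ResidueField R')
    (fun i => (maximalIdeal R').toCotangent ⟨algebraMap R R' (t i), hm' i⟩))
  (L : Type u) [Field L] [Algebra R L] [FaithfulSMul R L]
  (M : Type u) [Field M] [Algebra R' M] [FaithfulSMul R' M]
  (i : L →+* M)
  (hcompat : ∀ a : R, i (algebraMap R L a) = algebraMap R' M (algebraMap R R' a))
  (hgen : ∀ E : Subfield M, Set.range i ⊆ E → Set.range (algebraMap R' M) ⊆ E → E = ⊤)

include hinc hm hf hm' hf' hcompat hgen in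
set_option maxHeartbeats 1000000 in
theorem Good.baseChange (hG : Good R t L) : Good R' (fun i => algebraMap R R' (t i)) M := by
  obtain ⟨hfinM, hsepM⟩ := finsep_baseChange R R' L M i hcompat hgen hG.fin hG.sep
  refine ⟨hfinM, hsepM, ?_, ?_⟩
  · intro 𝔓 _ h𝔓 hprod
    have h1 := height_under_eq_one_of_flat R R' hinc 𝔓 h𝔓
    have h2 : (∏ i, t i) ∉ 𝔓.under R := by
      intro h
      apply hprod
      rw [Ideal.under_def, Ideal.mem_comap, map_prod] at h
      exact h
    haveI := isDVR_of_height_eq_one R (𝔓.under R) h1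
    haveI := isDVR_of_height_eq_one R' 𝔓 h𝔓
    exact unram_baseChange R R' (𝔓.under R) 𝔓 L M i hcompat hgen
      hG.fin hG.sep (hG.unram (𝔓.under R) h1 h2)
  · intro j _
    haveI := span_singleton_isPrime_of_linearIndependent t hm hf j
    have ht'0 : algebraMap R R' (t j) ≠ 0 :=
      ne_zero_of_linearIndependent (fun i => algebraMap R R' (t i)) hm' hf' j
    have h1 : (Ideal.span ({algebraMap R R' (t j)} : Set R')).height = 1 :=
      height_span_singleton _ ht'0
    have h2 : (Ideal.span ({t j} : Set R)).height = 1 :=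
      height_span_singleton _ (ne_zero_of_linearIndependent t hm hf j)
    have h3 := height_under_eq_one_of_flat R R' hinc _ h1
    have h4 : t j ∈ (Ideal.span ({algebraMap R R' (t j)} : Set R')).under R := by
      rw [Ideal.under_def, Ideal.mem_comap]
      exact Ideal.mem_span_singleton_self _
    haveI : (Ideal.span ({algebraMap R R' (t j)} : Set R')).LiesOver
        (Ideal.span ({t j} : Set R)) :=
      ⟨eq_span_of_mem _ h3 (t j) (ne_zero_of_linearIndependent t hm hf j) h4⟩
    haveI := isDVR_of_height_eq_one R _ h2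
    haveI := isDVR_of_height_eq_one R' _ h1
    exact tame_baseChange R R' (Ideal.span ({t j} : Set R))
      (Ideal.span ({algebraMap R R' (t j)} : Set R')) L M i hcompat hgen
      hG.fin hG.sep hfinM hsepM (hG.tame j)

end GoodBC

end Groth.Agent.Lib.Helper9.AbhGen
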