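import Mathlib
import Groth.Prelude.Def_EtRam
import Groth.Prelude.Def_SGA1
import Groth.Prelude.Def_Hensel
import Groth.Agent.S2743
import Groth.Agent.S0537
import Groth.Agent.Lib.Helper9.AbhAbs.Main
import Groth.Agent.Lib.Helper9.AbhGen.GoodSH
import Groth.Agent.Lib.Helper9.AbhGen.CommonExt2
import Groth.Agent.Lib.Helper9.AbhGen.DvdTriv
import Groth.Agent.Lib.Helper9.HensK.Strict
import Groth.Agent.Lib.Helper9.HensK.StrictUnique
import Groth.Agent.Lib.Helper9.Hens.Dimension
import Groth.Agent.Lib.Helper9.Hens.NoetherianHens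

/-!
# Theorem III: the ramification indices of a good extension of a regular local ring are
invertible in the residue field (helper9)
-/

universe u

open IsLocalRing EtRam

namespace Groth.Agent.Lib.Helper9.AbhGen

open Groth.Agent.Lib.Helper9.AbhAbs Groth.Agent.Lib.Helper9.AbhyankarCore
  Groth.Agent.Lib.Helper9.KummerTame

section EqE

theorem eV_eq_of_map_eq {A₁ A₂ : Type u} [CommRing A₁] [IsLocalRing A₁] [CommRing A₂]
    [IsLocalRing A₂] {L : Type u} [Field L] (g₁ : A₁ →+* L) (g₂ : A₂ →+* L)
    (V : ValuationSubring L) (h₁ : Dominates A₁ g₁ V) (h₂ : Dominates A₂ g₂ V)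
    (h : (maximalIdeal A₁).map (RingHom.codRestrict g₁ V h₁.1) =
      (maximalIdeal A₂).map (RingHom.codRestrict g₂ V h₂.1)) :
    eV g₁ V h₁ = eV g₂ V h₂ := by
  unfold eV Ideal.ramificationIdx'
  show sSup {n | Ideal.map (RingHom.codRestrict g₁ V h₁.1) (maximalIdeal A₁) ≤ _ ^ n} =
    sSup {n | Ideal.map (RingHom.codRestrict g₂ V h₂.1) (maximalIdeal A₂) ≤ _ ^ n}
  rw [h]

end EqE

section Aux

variable (R R' : Type u) [CommRing R] [IsRegularLocalRing R] [IsDomain R]
  [CommRing R'] [IsRegularLocalRing R'] [IsDomain R'] [Algebra R R'] [FaithfulSMul R R']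
  [Module.Flat R R'] [IsLocalHom (algebraMap R R')]
  [HenselianLocalRing R'] [IsSepClosed (ResidueField R')]
  (hinc : ∀ (P Q : Ideal R') [P.IsPrime] [Q.IsPrime], P < Q → P.under R < Q.under R)
  {r : ℕ} (t : Fin r → R)
  (hm : ∀ i, t i ∈ maximalIdeal R)
  (hf : LinearIndependent (ResidueField R) (fun i => (maximalIdeal R).toCotangent ⟨t i, hm i⟩))
  (hm' : ∀ i, algebraMap R R' (t i) ∈ maximalIdeal R')
  (hf' : LinearIndependent (ResidueField R')
    (fun i => (maximalIdeal R').toCotangent ⟨algebraMap R R' (t i), hm' i⟩))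
  (L : Type u) [Field L] [Algebra R L] [FaithfulSMul R L]

include hinc hm hf hm' hf' in
set_option maxHeartbeats 2000000 in
theorem isUnit_eV_aux (hG : Good R t L) (j : Fin r) [(Ideal.span ({t j} : Set R)).IsPrime]
    (V : ValuationSubring L)
    (hdom : Dominates (Localization.AtPrime (Ideal.span ({t j} : Set R)))
      (locLift R L (Ideal.span ({t j} : Set R))) V) :
    IsUnit ((eV (locLift R L (Ideal.span ({t j} : Set R))) V hdom : ℕ) : ResidueField R) := by
  classical
  haveI hp' : (Ideal.span ({algebraMap R R' (t j)} : Set R')).IsPrime :=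
    span_singleton_isPrime_of_linearIndependent (fun i => algebraMap R R' (t i)) hm' hf' j
  have ht0 : t j ≠ 0 := ne_zero_of_linearIndependent t hm hf j
  have ht'0 : algebraMap R R' (t j) ≠ 0 :=
    ne_zero_of_linearIndependent (fun i => algebraMap R R' (t i)) hm' hf' j
  have h1 : (Ideal.span ({algebraMap R R' (t j)} : Set R')).height = 1 :=
    height_span_singleton _ ht'0
  have h2 : (Ideal.span ({t j} : Set R)).height = 1 := height_span_singleton _ ht0
  have h3 := height_under_eq_one_of_flat R R' hinc _ h1
  have h4 : t j ∈ (Ideal.span ({algebraMap R R' (t j)} : Set R')).under R := by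
    rw [Ideal.under_def, Ideal.mem_comap]
    exact Ideal.mem_span_singleton_self _
  haveI hlies : (Ideal.span ({algebraMap R R' (t j)} : Set R')).LiesOver
      (Ideal.span ({t j} : Set R)) :=
    ⟨eq_span_of_mem _ h3 (t j) ht0 h4⟩
  haveI := isDVR_of_height_eq_one R _ h2
  haveI := isDVR_of_height_eq_one R' _ h1
  obtain ⟨M, fM, algM, faithM, i, V', hcompat, hgen, hV'V, hdom'⟩ :=
    common_ext R R' (Ideal.span ({t j} : Set R)) (Ideal.span ({algebraMap R R' (t j)} : Set R'))
      L V hdom
  subst hV'V
  have hG' : Good R' (fun i => algebraMap R R' (t i)) M :=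
    Good.baseChange R R' hinc t hm hf hm' hf' L M i hcompat hgen hG
  obtain ⟨m, hm1, hmu, hT⟩ := theoremI R' (fun i => algebraMap R R' (t i)) hm' hf' M hG'
  have hdvd1 := eV_dvd_of_triv R' (fun i => algebraMap R R' (t i)) hm' hf' m hm1 M hG'.fin hG'.sep
    hT j V' hdom'
  have hg : Function.Injective (locLift R L (Ideal.span ({t j} : Set R))) :=
    locLift_injective R L _
  have hdom'' : Dominates (Localization.AtPrime (Ideal.span ({t j} : Set R)))
      (i.comp (locLift R L (Ideal.span ({t j} : Set R)))) V' :=
    ⟨fun a => hdom.1 a, fun a ha => (valuation_comap_lt_one_iff V' i _).mp (hdom.2 a ha)⟩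
  haveI hdvrV' : IsDiscreteValuationRing V' :=
    isDVR_of_dominates_locLift R' _ M hG'.fin hG'.sep V' hdom'
  haveI hdvrV : IsDiscreteValuationRing (V'.comap i) :=
    isDVR_of_dominates_locLift R _ L hG.fin hG.sep _ hdom
  have hdvd2 := eV_dvd_eV (locLift R L (Ideal.span ({t j} : Set R))) hg i V' hdom'' hdom
  have heq : eV (i.comp (locLift R L (Ideal.span ({t j} : Set R)))) V' hdom'' =
      eV (locLift R' M (Ideal.span ({algebraMap R R' (t j)} : Set R'))) V' hdom' := by
    apply eV_eq_of_map_eq
    have e1 : maximalIdeal (Localization.AtPrime (Ideal.span ({t j} : Set R))) =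
        Ideal.span {algebraMap R (Localization.AtPrime (Ideal.span ({t j} : Set R))) (t j)} := by
      rw [← Localization.AtPrime.map_eq_maximalIdeal, Ideal.map_span, Set.image_singleton]
    have e2 : maximalIdeal (Localization.AtPrime
        (Ideal.span ({algebraMap R R' (t j)} : Set R'))) =
        Ideal.span {algebraMap R' (Localization.AtPrime
          (Ideal.span ({algebraMap R R' (t j)} : Set R'))) (algebraMap R R' (t j))} := by
      rw [← Localization.AtPrime.map_eq_maximalIdeal, Ideal.map_span, Set.image_singleton]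
    refine (congrArg (Ideal.map _) e1).trans ?_
    refine Eq.trans ?_ (congrArg (Ideal.map _) e2).symm
    rw [Ideal.map_span, Ideal.map_span, Set.image_singleton, Set.image_singleton]
    congr 2
    apply Subtype.ext
    show i (locLift R L _ (algebraMap R _ (t j))) =
      locLift R' M _ (algebraMap R' _ (algebraMap R R' (t j)))
    rw [locLift_algebraMap, locLift_algebraMap, hcompat]
  rw [heq] at hdvd2
  have hdvd := hdvd2.trans hdvd1
  obtain ⟨c, hc⟩ := hdvd
  have hu' : IsUnit ((eV (locLift R L (Ideal.span ({t j} : Set R))) (V'.comap i) hdom : ℕ) :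
      ResidueField R') := by
    have h5 := hmu j
    rw [hc, Nat.cast_mul] at h5
    exact isUnit_of_mul_isUnit_left h5
  rw [isUnit_iff_ne_zero] at hu' ⊢
  intro h0
  apply hu'
  have h6 := congrArg (ResidueField.map (algebraMap R R')) h0
  rw [map_natCast, map_zero] at h6
  exact h6

end Aux

section Main

variable (A : Type u) [CommRing A] [IsRegularLocalRing A] [IsDomain A] {r : ℕ} (f : Fin r → A)
  (hm : ∀ i, f i ∈ maximalIdeal A)
  (hf : LinearIndependent (ResidueField A) (fun i => (maximalIdeal A).toCotangent ⟨f i, hm i⟩))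
  (L : Type u) [Field L] [Algebra A L] [FaithfulSMul A L]

include hm hf in
set_option maxHeartbeats 1000000 in
/-- **Theorem III**: the ramification indices of a good extension along the `f_j` are invertible
in the residue field. -/
theorem theoremIII (hG : Good A f L) (j : Fin r) [(Ideal.span ({f j} : Set A)).IsPrime]
    (V : ValuationSubring L)
    (hdom : Dominates (Localization.AtPrime (Ideal.span ({f j} : Set A)))
      (locLift A L (Ideal.span ({f j} : Set A))) V) :
    IsUnit ((eV (locLift A L (Ideal.span ({f j} : Set A))) V hdom : ℕ) : ResidueField A) := by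
  classical
  obtain ⟨A', cA', lA', algA', locA', shA'⟩ := Groth.Agent.S0537.result A
  haveI hN : IsNoetherianRing A' :=
    (Groth.Agent.Lib.Helper9.isNoetherianRing_iff_of_isStrictHenselization A A').mp inferInstance
  haveI hreg : IsRegularLocalRing A' := (Groth.Agent.S2743.result A A').mpr inferInstance
  haveI : IsDomain A' := Groth.Agent.Lib.Helper85.isDomain_of_isRegularLocalRing A'
  haveI hflat : Module.Flat A A' := Groth.Agent.Lib.Helper9.HensK.flat_of_isStrictHenselization A A'
  haveI hff : Module.FaithfullyFlat A A' :=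
    Groth.Agent.Lib.Helper9.HensK.faithfullyFlat_of_isStrictHenselization A A'
  haveI : FaithfulSMul A A' := inferInstance
  haveI : HenselianLocalRing A' := shA'.henselian
  haveI : IsSepClosed (ResidueField A') := by
    haveI := shA'.isSepClosure
    exact IsSepClosure.sep_closed (ResidueField A)
  have hmax := Groth.Agent.Lib.Helper9.HensK.map_maximalIdeal_of_isStrictHenselization A A'
  have hdim := Groth.Agent.Lib.Helper9.ringKrullDim_eq_of_isStrictHenselization A A'
  have hcov := Groth.Agent.Lib.Helper9.isEtaleCovered_of_isStrictHenselization A A'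
  exact isUnit_eV_aux A A' (fun P Q _ _ h => hcov.under_lt_under h) f hm hf
    (map_mem_maximalIdeal A A' hmax f hm) (linearIndependent_map A A' hmax hdim f hm hf)
    L hG j V hdom

end Main

end Groth.Agent.Lib.Helper9.AbhGen
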