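import Mathlib
import Groth.Prelude.Def_EtRam
import Groth.Prelude.Def_SGA1
import Groth.Agent.Lib.Helper9.AbhGen.TheoremIII
import Groth.Agent.Lib.Helper9.AbhGen.GoodGen

/-!
# Uniform exponents for a finite étale algebra over `A[1/F]` (helper9)
-/

universe u

open IsLocalRing EtRam TensorProduct

namespace Groth.Agent.Lib.Helper9.AbhGen

open Groth.Agent.Lib.Helper9.AbhAbs Groth.Agent.Lib.Helper9.KummerTame
  Groth.Agent.Lib.Helper9.AbhSch Groth.Agent.Lib.Helper9.AbhyankarCore
  Groth.Agent.Lib.Helper9.TameBase

section Mult

variable (A : Type u) [CommRing A] [IsRegularLocalRing A] [IsDomain A] {r : ℕ} (f : Fin r → A)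
  (hm : ∀ i, f i ∈ maximalIdeal A)
  (hf : LinearIndependent (ResidueField A) (fun i => (maximalIdeal A).toCotangent ⟨f i, hm i⟩))
  (L : Type u) [Field L] [Algebra A L] [FaithfulSMul A L]

include hm hf in
set_option maxHeartbeats 1000000 in
/-- a common multiple of the ramification indices along `f_j`, invertible in the residue field of
`A`. -/
theorem exists_mult_unit (hG : Good A f L) (j : Fin r) [(Ideal.span ({f j} : Set A)).IsPrime] :
    ∃ e₀ : ℕ, 0 < e₀ ∧ IsUnit ((e₀ : ℕ) : ResidueField A) ∧
      ∀ (V : ValuationSubring L)
        (hdom : Dominates (Localization.AtPrime (Ideal.span ({f j} : Set A)))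
          (locLift A L (Ideal.span ({f j} : Set A))) V),
        eV (locLift A L (Ideal.span ({f j} : Set A))) V hdom ∣ e₀ := by
  classical
  haveI : IsDiscreteValuationRing (Localization.AtPrime (Ideal.span ({f j} : Set A))) :=
    isDVR_of_height_eq_one A _
      (height_span_singleton _ (ne_zero_of_linearIndependent f hm hf j))
  letI algAK : Algebra (Localization.AtPrime (Ideal.span ({f j} : Set A))) (FractionRing A) :=
    (locLift A (FractionRing A) (Ideal.span ({f j} : Set A))).toAlgebra
  haveI towRAK : IsScalarTower A (Localization.AtPrime (Ideal.span ({f j} : Set A)))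
      (FractionRing A) :=
    IsScalarTower.of_algebraMap_eq (fun a => (locLift_algebraMap A (FractionRing A) _ a).symm)
  haveI : IsFractionRing (Localization.AtPrime (Ideal.span ({f j} : Set A))) (FractionRing A) :=
    IsFractionRing.isFractionRing_of_isDomain_of_isLocalization
      (Ideal.span ({f j} : Set A)).primeCompl _ _
  letI algKL : Algebra (FractionRing A) L := FractionRing.liftAlgebra A L
  letI algAL : Algebra (Localization.AtPrime (Ideal.span ({f j} : Set A))) L :=
    (locLift A L (Ideal.span ({f j} : Set A))).toAlgebra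
  haveI towAKL : IsScalarTower (Localization.AtPrime (Ideal.span ({f j} : Set A)))
      (FractionRing A) L := by
    apply IsScalarTower.of_algebraMap_eq'
    apply locRingHom_ext A (Ideal.span ({f j} : Set A))
    intro a
    rw [RingHom.comp_apply, ← IsScalarTower.algebraMap_apply A
      (Localization.AtPrime (Ideal.span ({f j} : Set A))) (FractionRing A),
      ← IsScalarTower.algebraMap_apply A (FractionRing A) L]
    exact locLift_algebraMap A L _ a
  haveI : FiniteDimensional (FractionRing A) L := hG.fin
  haveI : Algebra.IsSeparable (FractionRing A) L := hG.sep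
  haveI : Finite {V : ValuationSubring L //
      Dominates (Localization.AtPrime (Ideal.span ({f j} : Set A)))
        (locLift A L (Ideal.span ({f j} : Set A))) V} :=
    (finite_dominating (Localization.AtPrime (Ideal.span ({f j} : Set A)))
      (FractionRing A) (L := L)).to_subtype
  letI := Fintype.ofFinite {V : ValuationSubring L //
      Dominates (Localization.AtPrime (Ideal.span ({f j} : Set A)))
        (locLift A L (Ideal.span ({f j} : Set A))) V}
  have hu : ∀ x : {V : ValuationSubring L //
      Dominates (Localization.AtPrime (Ideal.span ({f j} : Set A)))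
        (locLift A L (Ideal.span ({f j} : Set A))) V},
      IsUnit ((eV (locLift A L (Ideal.span ({f j} : Set A))) x.1 x.2 : ℕ) : ResidueField A) :=
    fun x => theoremIII A f hm hf L hG j x.1 x.2
  refine ⟨∏ x : {V : ValuationSubring L //
      Dominates (Localization.AtPrime (Ideal.span ({f j} : Set A)))
        (locLift A L (Ideal.span ({f j} : Set A))) V},
    eV (locLift A L (Ideal.span ({f j} : Set A))) x.1 x.2, ?_, ?_, ?_⟩
  · apply Finset.prod_pos
    intro x _
    apply Nat.pos_of_ne_zero
    intro h0
    have := hu x
    rw [h0, Nat.cast_zero] at this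
    exact not_isUnit_zero this
  · rw [Nat.cast_prod]
    exact IsUnit.prod_univ_iff.mpr hu
  · intro V hdom
    exact Finset.dvd_prod_of_mem (fun x : {V : ValuationSubring L //
      Dominates (Localization.AtPrime (Ideal.span ({f j} : Set A)))
        (locLift A L (Ideal.span ({f j} : Set A))) V} =>
      eV (locLift A L (Ideal.span ({f j} : Set A))) x.1 x.2) (Finset.mem_univ ⟨V, hdom⟩)

end Mult

section Primes

variable (A : Type u) [CommRing A] [IsDomain A] (F : A)
  (Aloc : Type u) [CommRing Aloc] [Algebra A Aloc] [IsLocalization.Away F Aloc]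
  (E : Type u) [CommRing E] [Algebra A E] [Algebra Aloc E] [IsScalarTower A Aloc E]
  [Module.Finite Aloc E] [IsNoetherianRing A]

include F Aloc in
/-- finitely many primes of `E` lie over the zero ideal of `A`. -/
theorem finite_generic_primes :
    {q : Ideal E | q.IsPrime ∧ Ideal.comap (algebraMap A E) q = ⊥}.Finite := by
  haveI : IsNoetherianRing Aloc :=
    IsLocalization.isNoetherianRing (Submonoid.powers F) Aloc inferInstance
  haveI : IsNoetherianRing E := IsNoetherianRing.of_finite Aloc E
  haveI : Algebra.IsIntegral Aloc E := Algebra.IsIntegral.of_finite _ _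
  refine (minimalPrimes.finite_of_isNoetherianRing E).subset ?_
  rintro q ⟨hqp, hq⟩
  refine ⟨⟨hqp, bot_le⟩, ?_⟩
  rintro q' ⟨hq'p, -⟩ hle
  by_contra hnle
  have hlt : q' < q := lt_of_le_of_ne hle (fun h => hnle (h ▸ le_refl _))
  haveI := hq'p
  have h1 := Ideal.IsIntegral.comap_lt_comap (R := Aloc) hlt
  have hq' : Ideal.comap (algebraMap A E) q' = ⊥ := by
    rw [eq_bot_iff, ← hq]
    exact Ideal.comap_mono hle
  have h2 : ∀ I : Ideal E, Ideal.comap (algebraMap A E) I =
      Ideal.comap (algebraMap A Aloc) (Ideal.comap (algebraMap Aloc E) I) := by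
    intro I
    rw [Ideal.comap_comap, ← IsScalarTower.algebraMap_eq]
  have h3 : Ideal.comap (algebraMap Aloc E) q' = Ideal.comap (algebraMap Aloc E) q := by
    rw [← IsLocalization.map_comap (Submonoid.powers F) Aloc (Ideal.comap (algebraMap Aloc E) q'),
      ← IsLocalization.map_comap (Submonoid.powers F) Aloc (Ideal.comap (algebraMap Aloc E) q)]
    have h4 := (h2 q').symm.trans hq'
    have h5 := (h2 q).symm.trans hq
    rw [Ideal.under_def, Ideal.under_def, h4, h5]
  rw [h3] at h1
  exact lt_irrefl _ h1

end Primes

end Groth.Agent.Lib.Helper9.AbhGen
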