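import Mathlib
import Groth.Prelude.Def_EtRam
import Groth.Prelude.Def_SGA1
import Groth.Agent.Lib.Helper9.AbhGen.UniformN
import Groth.Agent.Lib.Helper9.AbhAbs.EtaleClosure

/-!
# Uniform exponents, and étaleness of normalizations in composita (helper9)
-/

universe u

open IsLocalRing EtRam TensorProduct

namespace Groth.Agent.Lib.Helper9.AbhGen

open Groth.Agent.Lib.Helper9.AbhAbs Groth.Agent.Lib.Helper9.KummerTame
  Groth.Agent.Lib.Helper9.AbhSch Groth.Agent.Lib.Helper9.AbhyankarCore
  Groth.Agent.Lib.Helper9.TameBase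

section Uniform

variable (A : Type u) [CommRing A] [IsRegularLocalRing A] [IsDomain A] {r : ℕ} (f : Fin r → A)
  (hm : ∀ i, f i ∈ maximalIdeal A)
  (hf : LinearIndependent (ResidueField A) (fun i => (maximalIdeal A).toCotangent ⟨f i, hm i⟩))
  [∀ i, (Ideal.span {f i}).IsPrime]
  (Aloc : Type u) [CommRing Aloc] [Algebra A Aloc] [IsLocalization.Away (∏ i, f i) Aloc]
  (E : Type u) [CommRing E] [Algebra A E] [Algebra Aloc E] [IsScalarTower A Aloc E]
  [Module.Finite Aloc E] [Algebra.Etale Aloc E]

/-- the exponents `n` are multiples of all ramification indices at all generic points of `E`. -/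
def DvdAll (n : Fin r → ℕ) : Prop :=
  ∀ (q : Ideal E) [q.IsPrime] (hq : Ideal.comap (algebraMap A E) q = ⊥) (j : Fin r),
    letI := algResField A E q
    haveI := faithfulSMul_resField A E q hq
    ∀ (V : ValuationSubring q.ResidueField)
      (hdom : Dominates (Localization.AtPrime (Ideal.span ({f j} : Set A)))
        (locLift A q.ResidueField (Ideal.span ({f j} : Set A))) V),
      eV (locLift A q.ResidueField (Ideal.span ({f j} : Set A))) V hdom ∣ n j

include hm hf Aloc in
set_option maxHeartbeats 1000000 in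
theorem exists_uniform (htame : SGA1.IsTameAlong f (algebraMap A E)) :
    ∃ n : Fin r → ℕ, (∀ j, 1 ≤ n j) ∧ (∀ j, IsUnit ((n j : ℕ) : ResidueField A)) ∧
      DvdAll A f E n := by
  classical
  have key : ∀ (q : Ideal E) (j : Fin r), ∃ e : ℕ, 0 < e ∧ IsUnit ((e : ℕ) : ResidueField A) ∧
      ∀ (hp : q.IsPrime) (hq : Ideal.comap (algebraMap A E) q = ⊥),
        letI := algResField A E q
        haveI := faithfulSMul_resField A E q hq
        ∀ (V : ValuationSubring q.ResidueField)
          (hdom : Dominates (Localization.AtPrime (Ideal.span ({f j} : Set A)))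
            (locLift A q.ResidueField (Ideal.span ({f j} : Set A))) V),
          eV (locLift A q.ResidueField (Ideal.span ({f j} : Set A))) V hdom ∣ e := by
    intro q j
    by_cases h : q.IsPrime ∧ Ideal.comap (algebraMap A E) q = ⊥
    · obtain ⟨hp, hq⟩ := h
      haveI := hp
      letI := algResField A E q
      haveI := faithfulSMul_resField A E q hq
      obtain ⟨e, he0, heu, hedvd⟩ := exists_mult_unit A f hm hf q.ResidueField
        (good_resField A f Aloc E q hq htame) j
      exact ⟨e, he0, heu, fun _ _ V hdom => hedvd V hdom⟩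
    · refine ⟨1, one_pos, ?_, fun hp hq => absurd ⟨hp, hq⟩ h⟩
      rw [Nat.cast_one]
      exact isUnit_one
  choose e he0 heu hedvd using key
  have hA : IsNoetherianRing A := inferInstance
  have hfinS := finite_generic_primes A (∏ i, f i) Aloc E
  refine ⟨fun j => ∏ q ∈ hfinS.toFinset, e q j, fun j => ?_, fun j => ?_, ?_⟩
  · exact Finset.prod_pos (fun q _ => he0 q j)
  · rw [Nat.cast_prod]
    exact (IsUnit.prod_iff).mpr (fun q _ => heu q j)
  · intro q hp hq j V hdom
    exact (hedvd q j hp hq V hdom).trans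
      (Finset.dvd_prod_of_mem (fun q => e q j) (hfinS.mem_toFinset.mpr ⟨hp, hq⟩))

end Uniform

section EtaleN

variable (A : Type u) [CommRing A] [IsRegularLocalRing A] [IsDomain A] {r : ℕ} (f : Fin r → A)
  (hm : ∀ i, f i ∈ maximalIdeal A)
  (hf : LinearIndependent (ResidueField A) (fun i => (maximalIdeal A).toCotangent ⟨f i, hm i⟩))
  [∀ i, (Ideal.span {f i}).IsPrime]
  (Aloc : Type u) [CommRing Aloc] [Algebra A Aloc] [IsLocalization.Away (∏ i, f i) Aloc]
  (E : Type u) [CommRing E] [Algebra A E] [Algebra Aloc E] [IsScalarTower A Aloc E]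
  [Module.Finite Aloc E] [Algebra.Etale Aloc E]
  (n : Fin r → ℕ) (hn : ∀ i, 1 ≤ n i)
  [IsRegularLocalRing (SGA1.kummerAlg A f n)] [IsDomain (SGA1.kummerAlg A f n)]
  (N : Type u) [Field N] [Algebra (SGA1.kummerAlg A f n) N] [FaithfulSMul (SGA1.kummerAlg A f n) N]
  (φ : E →+* N)
  (hφ : ∀ a : A, φ (algebraMap A E a) =
    algebraMap (SGA1.kummerAlg A f n) N (algebraMap A (SGA1.kummerAlg A f n) a))
  (hgenN : ∀ S : Subfield N, Set.range φ ⊆ S →
    Set.range (algebraMap (SGA1.kummerAlg A f n) N) ⊆ S → S = ⊤)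

include hm hf Aloc hn hφ hgenN in
set_option maxHeartbeats 2000000 in
/-- the normalization of the Kummer algebra in a compositum with a generic residue field of `E`
is finite étale. -/
theorem etale_integralClosure_of_dvdAll (htame : SGA1.IsTameAlong f (algebraMap A E))
    (hdiv : DvdAll A f E n) :
    Module.Finite (SGA1.kummerAlg A f n) (integralClosure (SGA1.kummerAlg A f n) N) ∧
      Algebra.Etale (SGA1.kummerAlg A f n) (integralClosure (SGA1.kummerAlg A f n) N) := by
  classical
  have hinjAB : Function.Injective (algebraMap A (SGA1.kummerAlg A f n)) :=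
    algebraMap_kummer_injective A f n hn
  have hinjBN : Function.Injective (algebraMap (SGA1.kummerAlg A f n) N) :=
    FaithfulSMul.algebraMap_injective _ _
  obtain ⟨q, hqdef⟩ : ∃ q : Ideal E, q = RingHom.ker φ := ⟨_, rfl⟩
  haveI hqp : q.IsPrime := by
    rw [hqdef]
    exact RingHom.ker_isPrime φ
  have hq : Ideal.comap (algebraMap A E) q = ⊥ := by
    rw [eq_bot_iff]
    intro a ha
    rw [Ideal.mem_comap, hqdef, RingHom.mem_ker, hφ] at ha
    rw [Ideal.mem_bot]
    apply hinjAB
    apply hinjBN
    rw [ha, map_zero, map_zero]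
  letI := algResField A E q
  haveI := faithfulSMul_resField A E q hq
  haveI := isScalarTower_resField A E q
  have hG : Good A f q.ResidueField := good_resField A f Aloc E q hq htame
  have hunits : q.primeCompl ≤ (IsUnit.submonoid N).comap φ := by
    intro x hx
    rw [Submonoid.mem_comap, IsUnit.mem_submonoid_iff, isUnit_iff_ne_zero]
    intro h0
    apply hx
    rw [hqdef]
    exact h0
  obtain ⟨i, hidef⟩ : ∃ i : q.ResidueField →+* N,
      i = Ideal.ResidueField.lift q φ (le_of_eq hqdef) hunits := ⟨_, rfl⟩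
  have hiφ : ∀ e : E, i (algebraMap E q.ResidueField e) = φ e := by
    intro e
    rw [hidef]
    exact Ideal.ResidueField.lift_algebraMap q φ (le_of_eq hqdef) hunits e
  have hcompat : ∀ a : A, i (algebraMap A q.ResidueField a) =
      algebraMap (SGA1.kummerAlg A f n) N (algebraMap A (SGA1.kummerAlg A f n) a) := by
    intro a
    rw [IsScalarTower.algebraMap_apply A E q.ResidueField, hiφ, hφ]
  have hgen : ∀ S : Subfield N, Set.range i ⊆ S →
      Set.range (algebraMap (SGA1.kummerAlg A f n) N) ⊆ S → S = ⊤ := by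
    intro S h1 h2
    apply hgenN S ?_ h2
    rintro _ ⟨e, rfl⟩
    rw [← hiφ]
    exact h1 ⟨_, rfl⟩
  have hG' := Good.kummer A f hm hf n hn q.ResidueField N i hcompat hgen hG
  exact etale_integralClosure_of_unram (SGA1.kummerAlg A f n) N hG'.fin hG'.sep
    (fun 𝔓 _ h𝔓 => Good.unram_kummer A f hm hf n hn q.ResidueField N i hcompat hgen hG
      (fun j _ V hdom => hdiv q hq j V hdom) 𝔓 h𝔓)

end EtaleN

end Groth.Agent.Lib.Helper9.AbhGen
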