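import Mathlib
import Groth.Agent.Lib.Helper24.SmoothNormal

/-!
# Normalization of `B` in the generic fibre of a finite étale `B[1/F]`-algebra (helper9)

`S` finite étale over `Bloc = B[1/F]`, `B` an integrally closed domain with fraction field `K`.
The integral closure `C` of `B` in `Q = S ⊗[Bloc] K` satisfies `C[1/F] ≅ S`.
-/

universe u

open TensorProduct

namespace Groth.Agent.Lib.Helper9.AbhGen

section NormLoc

variable (B : Type u) [CommRing B] [IsDomain B] [IsIntegrallyClosed B] (Fb : B) (hFb : Fb ≠ 0)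
  (Bloc : Type u) [CommRing Bloc] [Algebra B Bloc] [IsLocalization.Away Fb Bloc]
  (K : Type u) [Field K] [Algebra B K] [IsFractionRing B K] [Algebra Bloc K]
  [IsScalarTower B Bloc K]
  (S : Type u) [CommRing S] [Algebra Bloc S] [Module.Finite Bloc S] [Algebra.Etale Bloc S]
  [Algebra B S] [IsScalarTower B Bloc S]

include hFb in
set_option maxHeartbeats 2000000 in
theorem exists_equiv_away :
    ∃ ε : S ≃+* Localization.Away
        (algebraMap B (integralClosure B (S ⊗[Bloc] K)) Fb),
      ∀ b : B, ε (algebraMap B S b) =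
        algebraMap (integralClosure B (S ⊗[Bloc] K)) _
          (algebraMap B (integralClosure B (S ⊗[Bloc] K)) b) := by
  classical
  haveI : IsDomain Bloc :=
    IsLocalization.isDomain_of_le_nonZeroDivisors (M := Submonoid.powers Fb) Bloc
      (powers_le_nonZeroDivisors_of_noZeroDivisors hFb)
  haveI : IsIntegrallyClosed Bloc :=
    isIntegrallyClosed_of_isLocalization Bloc (Submonoid.powers Fb)
      (powers_le_nonZeroDivisors_of_noZeroDivisors hFb)
  haveI : IsFractionRing Bloc K :=
    IsFractionRing.isFractionRing_of_isDomain_of_isLocalization (Submonoid.powers Fb) Bloc K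
  have hic : integralClosure Bloc K = ⊥ :=
    (IsIntegrallyClosed.integralClosure_eq_bot_iff K).mpr inferInstance
  haveI : Module.Flat Bloc S := Algebra.Smooth.flat Bloc S
  haveI : Algebra.IsIntegral Bloc S := Algebra.IsIntegral.of_finite _ _
  -- the two integral closures
  let incl : integralClosure B (S ⊗[Bloc] K) →+* integralClosure Bloc (S ⊗[Bloc] K) :=
    { toFun := fun x => ⟨x.1, x.2.tower_top⟩
      map_one' := rfl
      map_mul' := fun _ _ => rfl
      map_zero' := rfl
      map_add' := fun _ _ => rfl }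
  letI algCCl : Algebra (integralClosure B (S ⊗[Bloc] K)) (integralClosure Bloc (S ⊗[Bloc] K)) :=
    incl.toAlgebra
  haveI t1 : IsScalarTower (integralClosure B (S ⊗[Bloc] K)) (integralClosure Bloc (S ⊗[Bloc] K))
      (S ⊗[Bloc] K) := IsScalarTower.of_algebraMap_eq (fun _ => rfl)
  haveI t2 : IsScalarTower B (integralClosure B (S ⊗[Bloc] K))
      (integralClosure Bloc (S ⊗[Bloc] K)) :=
    IsScalarTower.of_algebraMap_eq (fun b => Subtype.ext (by
      show algebraMap B (S ⊗[Bloc] K) b = algebraMap B (S ⊗[Bloc] K) b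
      rfl))
  have hunit : IsUnit (algebraMap B (S ⊗[Bloc] K) Fb) := by
    rw [IsScalarTower.algebraMap_apply B Bloc (S ⊗[Bloc] K)]
    exact (IsLocalization.Away.algebraMap_isUnit Fb).map _
  haveI : IsLocalization.Away (algebraMap B (S ⊗[Bloc] K) Fb) (S ⊗[Bloc] K) :=
    IsLocalization.away_of_isUnit_of_bijective _ hunit Function.bijective_id
  haveI hloc : IsLocalization.Away (algebraMap B (integralClosure B (S ⊗[Bloc] K)) Fb)
      (integralClosure Bloc (S ⊗[Bloc] K)) :=
    IsLocalization.Away.integralClosure (R := B) (S := S ⊗[Bloc] K) (Rf := Bloc)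
      (Sf := S ⊗[Bloc] K) Fb
  -- `S ≃ integralClosure Bloc Q`
  let θ₀ : S →ₐ[Bloc] integralClosure Bloc (S ⊗[Bloc] K) :=
    (IsScalarTower.toAlgHom Bloc S (S ⊗[Bloc] K)).codRestrict _
      (fun s => (Algebra.IsIntegral.isIntegral (R := Bloc) s).map
        (IsScalarTower.toAlgHom Bloc S (S ⊗[Bloc] K)))
  have hθ₀ : ∀ s : S, ((θ₀ s : integralClosure Bloc (S ⊗[Bloc] K)) : S ⊗[Bloc] K) =
      algebraMap S (S ⊗[Bloc] K) s := fun s => rfl
  have hinj : Function.Injective θ₀ := by
    intro s s' h
    have h1 := congrArg Subtype.val h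
    rw [hθ₀, hθ₀] at h1
    exact Algebra.TensorProduct.includeLeft_injective (S := S)
      (IsFractionRing.injective Bloc K) h1
  have hsurj : Function.Surjective θ₀ := by
    intro x
    have hx : IsIntegral S (x : S ⊗[Bloc] K) := x.2.tower_top
    obtain ⟨s, hs⟩ := Groth.Agent.Lib.Helper24.mem_range_of_isIntegral_tensor_of_smooth
      Bloc S K hic (x : S ⊗[Bloc] K) hx
    exact ⟨s, Subtype.ext hs⟩
  let θ : S ≃ₐ[Bloc] integralClosure Bloc (S ⊗[Bloc] K) :=
    AlgEquiv.ofBijective θ₀ ⟨hinj, hsurj⟩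
  let κ : integralClosure Bloc (S ⊗[Bloc] K) ≃ₐ[integralClosure B (S ⊗[Bloc] K)]
      Localization.Away (algebraMap B (integralClosure B (S ⊗[Bloc] K)) Fb) :=
    IsLocalization.algEquiv
      (Submonoid.powers (algebraMap B (integralClosure B (S ⊗[Bloc] K)) Fb)) _ _
  refine ⟨θ.toRingEquiv.trans κ.toRingEquiv, ?_⟩
  intro b
  have h1 : θ (algebraMap B S b) =
      algebraMap (integralClosure B (S ⊗[Bloc] K)) (integralClosure Bloc (S ⊗[Bloc] K))
        (algebraMap B (integralClosure B (S ⊗[Bloc] K)) b) := by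
    apply Subtype.ext
    show algebraMap S (S ⊗[Bloc] K) (algebraMap B S b) = algebraMap B (S ⊗[Bloc] K) b
    rw [← IsScalarTower.algebraMap_apply B S (S ⊗[Bloc] K)]
  show κ (θ (algebraMap B S b)) = _
  rw [h1]
  exact κ.commutes _

end NormLoc

end Groth.Agent.Lib.Helper9.AbhGen
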