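import Mathlib

/-!
# Integral closure in a reduced Artinian algebra is the product of the integral closures in its
residue fields (helper9)
-/

universe u

open Polynomial

namespace Groth.Agent.Lib.Helper9.AbhGen

section Pi

variable {R : Type*} [CommRing R] {ι : Type*} [Fintype ι] {S : ι → Type*} [∀ i, CommRing (S i)]
  [∀ i, Algebra R (S i)]

/-- a tuple of integral elements is integral in the product. -/
theorem isIntegral_pi (x : ∀ i, S i) (h : ∀ i, IsIntegral R (x i)) : IsIntegral R x := by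
  classical
  choose p hpm hp using h
  refine ⟨∏ i, p i, monic_prod_of_monic _ _ (fun i _ => hpm i), ?_⟩
  funext i
  have h1 := Polynomial.hom_eval₂ (∏ i, p i) (algebraMap R (∀ i, S i)) (Pi.evalRingHom S i) x
  have h2 : (Pi.evalRingHom S i).comp (algebraMap R (∀ i, S i)) = algebraMap R (S i) := rfl
  rw [h2] at h1
  show Pi.evalRingHom S i (eval₂ (algebraMap R (∀ i, S i)) x (∏ i, p i)) = 0
  rw [h1, eval₂_finset_prod]
  exact Finset.prod_eq_zero (Finset.mem_univ i) (hp i)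

end Pi

section Art

variable (R Q : Type u) [CommRing R] [CommRing Q] [Algebra R Q] [IsArtinianRing Q] [IsReduced Q]

set_option maxHeartbeats 1000000 in
theorem finite_etale_integralClosure_of_pi
    (h : ∀ 𝔪 : MaximalSpectrum Q, Module.Finite R (integralClosure R (Q ⧸ 𝔪.asIdeal)) ∧
      Algebra.Etale R (integralClosure R (Q ⧸ 𝔪.asIdeal))) :
    Module.Finite R (integralClosure R Q) ∧ Algebra.Etale R (integralClosure R Q) := by
  classical
  haveI : Fintype (MaximalSpectrum Q) := Fintype.ofFinite _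
  haveI : ∀ 𝔪 : MaximalSpectrum Q, Module.Finite R (integralClosure R (Q ⧸ 𝔪.asIdeal)) :=
    fun 𝔪 => (h 𝔪).1
  haveI : ∀ 𝔪 : MaximalSpectrum Q, Algebra.Etale R (integralClosure R (Q ⧸ 𝔪.asIdeal)) :=
    fun 𝔪 => (h 𝔪).2
  let e : Q ≃ₐ[R] ∀ 𝔪 : MaximalSpectrum Q, Q ⧸ 𝔪.asIdeal :=
    (IsArtinianRing.equivPi Q).restrictScalars R
  have he : ∀ (x : Q) (𝔪 : MaximalSpectrum Q), e x 𝔪 = Ideal.Quotient.mk 𝔪.asIdeal x :=
    fun x 𝔪 => rfl
  let g : integralClosure R Q →ₐ[R] ∀ 𝔪 : MaximalSpectrum Q, integralClosure R (Q ⧸ 𝔪.asIdeal) :=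
    Pi.algHom R _ (fun 𝔪 => (Ideal.Quotient.mkₐ R 𝔪.asIdeal).mapIntegralClosure)
  have hg : ∀ (x : integralClosure R Q) (𝔪 : MaximalSpectrum Q),
      ((g x 𝔪 : integralClosure R (Q ⧸ 𝔪.asIdeal)) : Q ⧸ 𝔪.asIdeal) =
        Ideal.Quotient.mk 𝔪.asIdeal (x : Q) := fun x 𝔪 => rfl
  have hginj : Function.Injective g := by
    intro x y hxy
    apply Subtype.ext
    apply e.injective
    funext 𝔪
    rw [he, he, ← hg, ← hg, hxy]
  have hgsurj : Function.Surjective g := by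
    intro p
    have hint : IsIntegral R (e.symm (fun 𝔪 => ((p 𝔪 : integralClosure R (Q ⧸ 𝔪.asIdeal)) :
        Q ⧸ 𝔪.asIdeal))) := by
      have h1 : IsIntegral R (fun 𝔪 : MaximalSpectrum Q =>
          ((p 𝔪 : integralClosure R (Q ⧸ 𝔪.asIdeal)) : Q ⧸ 𝔪.asIdeal)) :=
        isIntegral_pi _ (fun 𝔪 => (p 𝔪).2)
      exact h1.map (e.symm : (∀ 𝔪 : MaximalSpectrum Q, Q ⧸ 𝔪.asIdeal) →ₐ[R] Q)
    refine ⟨⟨_, hint⟩, ?_⟩
    funext 𝔪
    apply Subtype.ext
    rw [hg, ← he]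
    show e (e.symm _) 𝔪 = _
    rw [e.apply_symm_apply]
  let E' : integralClosure R Q ≃ₐ[R]
      ∀ 𝔪 : MaximalSpectrum Q, integralClosure R (Q ⧸ 𝔪.asIdeal) :=
    AlgEquiv.ofBijective g ⟨hginj, hgsurj⟩
  exact ⟨Module.Finite.equiv E'.symm.toLinearEquiv, Algebra.Etale.of_equiv E'.symm⟩

end Art

end Groth.Agent.Lib.Helper9.AbhGen
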