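import Mathlib

/-!
# The generic fibre `Q = (Bloc ⊗[Aloc] E) ⊗[Bloc] K` (helper9)
-/

universe u

open TensorProduct

namespace Groth.Agent.Lib.Helper9.AbhGen

section Q

variable (A Aloc B Bloc E K : Type u) [CommRing A] [CommRing Aloc] [CommRing B] [CommRing Bloc]
  [CommRing E] [Field K]
  [Algebra A Aloc] [Algebra A B] [Algebra A E] [Algebra Aloc E] [IsScalarTower A Aloc E]
  [Algebra B Bloc] [Algebra A Bloc] [IsScalarTower A B Bloc] [Algebra Aloc Bloc]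
  [IsScalarTower A Aloc Bloc]
  [Algebra B K] [Algebra Bloc K] [IsScalarTower B Bloc K]

/-- `E → Q`. -/
noncomputable def ιE : E →+* (Bloc ⊗[Aloc] E) ⊗[Bloc] K :=
  (Algebra.TensorProduct.includeLeftRingHom :
      (Bloc ⊗[Aloc] E) →+* (Bloc ⊗[Aloc] E) ⊗[Bloc] K).comp
    (Algebra.TensorProduct.includeRight : E →ₐ[Aloc] Bloc ⊗[Aloc] E).toRingHom

/-- `K → Q`. -/
noncomputable def ιK : K →+* (Bloc ⊗[Aloc] E) ⊗[Bloc] K :=
  (Algebra.TensorProduct.includeRight : K →ₐ[Bloc] (Bloc ⊗[Aloc] E) ⊗[Bloc] K).toRingHom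

theorem ιE_apply (e : E) : ιE Aloc Bloc E K e = ((1 : Bloc) ⊗ₜ[Aloc] e) ⊗ₜ[Bloc] (1 : K) := rfl

theorem ιK_apply (k : K) : ιK Aloc Bloc E K k = ((1 : Bloc ⊗[Aloc] E)) ⊗ₜ[Bloc] k := rfl

theorem tmul_one_tmul_one (c : Bloc) :
    ((c ⊗ₜ[Aloc] (1 : E)) ⊗ₜ[Bloc] (1 : K)) = ιK Aloc Bloc E K (algebraMap Bloc K c) := by
  rw [ιK_apply]
  have h1 : (c ⊗ₜ[Aloc] (1 : E)) = c • (1 : Bloc ⊗[Aloc] E) := by
    rw [Algebra.TensorProduct.one_def, TensorProduct.smul_tmul', smul_eq_mul, mul_one]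
  rw [h1, TensorProduct.smul_tmul, Algebra.algebraMap_eq_smul_one]

include A B in
theorem ιE_algebraMap (a : A) :
    ιE Aloc Bloc E K (algebraMap A E a) = ιK Aloc Bloc E K (algebraMap B K (algebraMap A B a)) := by
  rw [ιE_apply, IsScalarTower.algebraMap_apply A Aloc E, Algebra.algebraMap_eq_smul_one,
    ← TensorProduct.smul_tmul, ← Algebra.algebraMap_eq_smul_one,
    ← IsScalarTower.algebraMap_apply A Aloc Bloc, IsScalarTower.algebraMap_apply A B Bloc,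
    tmul_one_tmul_one, ← IsScalarTower.algebraMap_apply B Bloc K]

theorem tmul_tmul_eq (c : Bloc) (e : E) (k : K) :
    ((c ⊗ₜ[Aloc] e) ⊗ₜ[Bloc] k) =
      ιK Aloc Bloc E K (algebraMap Bloc K c) * ιE Aloc Bloc E K e * ιK Aloc Bloc E K k := by
  rw [← tmul_one_tmul_one, ιE_apply, ιK_apply, Algebra.TensorProduct.tmul_mul_tmul,
    Algebra.TensorProduct.tmul_mul_tmul, Algebra.TensorProduct.tmul_mul_tmul, mul_one, one_mul,
    mul_one, one_mul, one_mul]

/-- `Q` is generated by the images of `E` and `K`. -/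
theorem mem_of_ι {N : Type u} [Field N] (ρ : (Bloc ⊗[Aloc] E) ⊗[Bloc] K →+* N) (S' : Subfield N)
    (hE : ∀ e : E, ρ (ιE Aloc Bloc E K e) ∈ S') (hK : ∀ k : K, ρ (ιK Aloc Bloc E K k) ∈ S')
    (x : (Bloc ⊗[Aloc] E) ⊗[Bloc] K) : ρ x ∈ S' := by
  induction x using TensorProduct.induction_on with
  | zero => rw [map_zero]; exact S'.zero_mem
  | add x y hx hy => rw [map_add]; exact S'.add_mem hx hy
  | tmul s k =>
    induction s using TensorProduct.induction_on with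
    | zero => rw [TensorProduct.zero_tmul, map_zero]; exact S'.zero_mem
    | add x y hx hy => rw [TensorProduct.add_tmul, map_add]; exact S'.add_mem hx hy
    | tmul c e =>
      rw [tmul_tmul_eq, map_mul, map_mul]
      exact S'.mul_mem (S'.mul_mem (hK _) (hE _)) (hK _)

end Q

end Groth.Agent.Lib.Helper9.AbhGen
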