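import Mathlib
import Groth.Prelude.Def_EtRam
import Groth.Prelude.Def_SGA1
import Groth.Agent.Lib.Helper9.AbhGen.EtaleN
import Groth.Agent.Lib.Helper9.AbhGen.PiClosure
import Groth.Agent.Lib.Helper9.AbhGen.NormLoc
import Groth.Agent.Lib.Helper9.AbhGen.QLemmas

/-!
# Ring-level form of the absolute Abhyankar lemma (helper9)
-/

universe u

open IsLocalRing EtRam TensorProduct

namespace Groth.Agent.Lib.Helper9.AbhGen

open Groth.Agent.Lib.Helper9.AbhAbs Groth.Agent.Lib.Helper9.KummerTame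

set_option maxHeartbeats 4000000 in
theorem ring_main2 (A : Type u) [CommRing A] [IsRegularLocalRing A] [IsDomain A] {r : ℕ}
    (f : Fin r → A) (hm : ∀ i, f i ∈ maximalIdeal A)
    (hf : LinearIndependent (ResidueField A) (fun i => (maximalIdeal A).toCotangent ⟨f i, hm i⟩))
    [∀ i, (Ideal.span {f i}).IsPrime]
    (Aloc : Type u) [CommRing Aloc] [Algebra A Aloc] [IsLocalization.Away (∏ i, f i) Aloc]
    (E : Type u) [CommRing E] [Algebra A E] [Algebra Aloc E] [IsScalarTower A Aloc E]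
    [Module.Finite Aloc E] [Algebra.Etale Aloc E]
    (htame : SGA1.IsTameAlong f (algebraMap A E)) :
    ∃ n : Fin r → ℕ, (∀ i, 1 ≤ n i) ∧ (∀ i, IsUnit ((n i : ℕ) : ResidueField A)) ∧
      ∀ (Bloc : Type u) [CommRing Bloc] [Algebra (SGA1.kummerAlg A f n) Bloc]
        [IsLocalization.Away (algebraMap A (SGA1.kummerAlg A f n) (∏ i, f i)) Bloc]
        [Algebra A Bloc] [IsScalarTower A (SGA1.kummerAlg A f n) Bloc]
        [Algebra Aloc Bloc] [IsScalarTower A Aloc Bloc],
        ∃ (C : Type u) (_ : CommRing C) (_ : Algebra (SGA1.kummerAlg A f n) C),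
          Module.Finite (SGA1.kummerAlg A f n) C ∧ Algebra.Etale (SGA1.kummerAlg A f n) C ∧
          ∃ ε : (Bloc ⊗[Aloc] E) ≃+* Localization.Away
              (algebraMap (SGA1.kummerAlg A f n) C
                (algebraMap A (SGA1.kummerAlg A f n) (∏ i, f i))),
            ∀ b : SGA1.kummerAlg A f n,
              ε ((algebraMap (SGA1.kummerAlg A f n) Bloc b) ⊗ₜ[Aloc] (1 : E)) =
                algebraMap C _ (algebraMap (SGA1.kummerAlg A f n) C b) := by
  classical
  obtain ⟨n, hn1, hnu, hdiv⟩ := exists_uniform A f hm hf Aloc E htame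
  refine ⟨n, hn1, hnu, ?_⟩
  intro Bloc _ _ _ _ _ _ _
  have hF : (∏ i, f i) ≠ 0 :=
    Finset.prod_ne_zero_iff.mpr (fun i _ => ne_zero_of_linearIndependent f hm hf i)
  haveI hreg : IsRegularLocalRing (SGA1.kummerAlg A f n) :=
    isRegularLocalRing_kummer A f hm hf n hn1
  haveI : IsDomain (SGA1.kummerAlg A f n) :=
    Groth.Agent.Lib.Helper85.isDomain_of_isRegularLocalRing _
  haveI : IsIntegrallyClosed (SGA1.kummerAlg A f n) := Groth.Agent.S9829.result _
  have hinjAB : Function.Injective (algebraMap A (SGA1.kummerAlg A f n)) :=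
    algebraMap_kummer_injective A f n hn1
  have hFB : algebraMap A (SGA1.kummerAlg A f n) (∏ i, f i) ≠ 0 := by
    rw [Ne, map_eq_zero_iff _ hinjAB]
    exact hF
  have huK : IsUnit (algebraMap (SGA1.kummerAlg A f n) (FractionRing (SGA1.kummerAlg A f n))
      (algebraMap A (SGA1.kummerAlg A f n) (∏ i, f i))) := by
    rw [isUnit_iff_ne_zero, Ne, map_eq_zero_iff _
      (IsFractionRing.injective (SGA1.kummerAlg A f n) (FractionRing (SGA1.kummerAlg A f n)))]
    exact hFB
  letI algBlocK : Algebra Bloc (FractionRing (SGA1.kummerAlg A f n)) :=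
    (IsLocalization.Away.lift (algebraMap A (SGA1.kummerAlg A f n) (∏ i, f i))
      (g := algebraMap (SGA1.kummerAlg A f n) (FractionRing (SGA1.kummerAlg A f n))) huK).toAlgebra
  haveI towBK : IsScalarTower (SGA1.kummerAlg A f n) Bloc (FractionRing (SGA1.kummerAlg A f n)) :=
    IsScalarTower.of_algebraMap_eq (fun b => (IsLocalization.Away.lift_eq _ huK b).symm)
  haveI : Module.Finite Bloc (Bloc ⊗[Aloc] E) := inferInstance
  haveI : Algebra.Etale Bloc (Bloc ⊗[Aloc] E) := inferInstance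
  obtain ⟨ε, hε⟩ := exists_equiv_away (SGA1.kummerAlg A f n)
    (algebraMap A (SGA1.kummerAlg A f n) (∏ i, f i)) hFB Bloc
    (FractionRing (SGA1.kummerAlg A f n)) (Bloc ⊗[Aloc] E)
  -- `Q` is Artinian and reduced
  haveI hfinT' : Module.Finite (FractionRing (SGA1.kummerAlg A f n))
      ((FractionRing (SGA1.kummerAlg A f n)) ⊗[Bloc] (Bloc ⊗[Aloc] E)) := inferInstance
  haveI hartT' : IsArtinianRing
      ((FractionRing (SGA1.kummerAlg A f n)) ⊗[Bloc] (Bloc ⊗[Aloc] E)) :=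
    IsArtinianRing.of_finite (FractionRing (SGA1.kummerAlg A f n)) _
  haveI hetT' : Algebra.Etale (FractionRing (SGA1.kummerAlg A f n))
      ((FractionRing (SGA1.kummerAlg A f n)) ⊗[Bloc] (Bloc ⊗[Aloc] E)) := inferInstance
  haveI hredT' : IsReduced
      ((FractionRing (SGA1.kummerAlg A f n)) ⊗[Bloc] (Bloc ⊗[Aloc] E)) :=
    Algebra.FormallyUnramified.isReduced_of_field (FractionRing (SGA1.kummerAlg A f n)) _
  obtain ⟨e, -⟩ : ∃ e : ((FractionRing (SGA1.kummerAlg A f n)) ⊗[Bloc] (Bloc ⊗[Aloc] E)) ≃ₐ[Bloc]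
      ((Bloc ⊗[Aloc] E) ⊗[Bloc] (FractionRing (SGA1.kummerAlg A f n))), True :=
    ⟨Algebra.TensorProduct.comm Bloc _ _, trivial⟩
  haveI hart : IsArtinianRing ((Bloc ⊗[Aloc] E) ⊗[Bloc] (FractionRing (SGA1.kummerAlg A f n))) :=
    e.toRingEquiv.surjective.isArtinianRing
  haveI hred : IsReduced ((Bloc ⊗[Aloc] E) ⊗[Bloc] (FractionRing (SGA1.kummerAlg A f n))) :=
    isReduced_of_injective e.symm.toRingEquiv e.symm.toRingEquiv.injective
  have halgB : ∀ b : SGA1.kummerAlg A f n,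
      algebraMap (SGA1.kummerAlg A f n)
        ((Bloc ⊗[Aloc] E) ⊗[Bloc] (FractionRing (SGA1.kummerAlg A f n))) b =
      ιK Aloc Bloc E (FractionRing (SGA1.kummerAlg A f n))
        (algebraMap (SGA1.kummerAlg A f n) (FractionRing (SGA1.kummerAlg A f n)) b) := by
    intro b
    rw [IsScalarTower.algebraMap_apply (SGA1.kummerAlg A f n) Bloc
      (FractionRing (SGA1.kummerAlg A f n)), ← tmul_one_tmul_one]
    rfl
  have h : ∀ 𝔪 : MaximalSpectrum
      ((Bloc ⊗[Aloc] E) ⊗[Bloc] (FractionRing (SGA1.kummerAlg A f n))),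
      Module.Finite (SGA1.kummerAlg A f n) (integralClosure (SGA1.kummerAlg A f n)
        (((Bloc ⊗[Aloc] E) ⊗[Bloc] (FractionRing (SGA1.kummerAlg A f n))) ⧸ 𝔪.asIdeal)) ∧
      Algebra.Etale (SGA1.kummerAlg A f n) (integralClosure (SGA1.kummerAlg A f n)
        (((Bloc ⊗[Aloc] E) ⊗[Bloc] (FractionRing (SGA1.kummerAlg A f n))) ⧸ 𝔪.asIdeal)) := by
    intro 𝔪
    haveI := 𝔪.isMaximal
    letI fN : Field (((Bloc ⊗[Aloc] E) ⊗[Bloc] (FractionRing (SGA1.kummerAlg A f n))) ⧸
        𝔪.asIdeal) := Ideal.Quotient.field 𝔪.asIdeal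
    obtain ⟨ρK, hρK⟩ : ∃ ρK : FractionRing (SGA1.kummerAlg A f n) →+*
        (((Bloc ⊗[Aloc] E) ⊗[Bloc] (FractionRing (SGA1.kummerAlg A f n))) ⧸ 𝔪.asIdeal),
        ρK = (Ideal.Quotient.mk 𝔪.asIdeal).comp
          (ιK Aloc Bloc E (FractionRing (SGA1.kummerAlg A f n))) := ⟨_, rfl⟩
    have hρKinj : Function.Injective ρK := ρK.injective
    have halgN : ∀ b : SGA1.kummerAlg A f n,
        algebraMap (SGA1.kummerAlg A f n)
          (((Bloc ⊗[Aloc] E) ⊗[Bloc] (FractionRing (SGA1.kummerAlg A f n))) ⧸ 𝔪.asIdeal) b =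
        ρK (algebraMap (SGA1.kummerAlg A f n) (FractionRing (SGA1.kummerAlg A f n)) b) := by
      intro b
      rw [hρK, RingHom.comp_apply, ← halgB]
      rfl
    have hinjN : Function.Injective (algebraMap (SGA1.kummerAlg A f n)
        (((Bloc ⊗[Aloc] E) ⊗[Bloc] (FractionRing (SGA1.kummerAlg A f n))) ⧸ 𝔪.asIdeal)) := by
      intro b b' hbb'
      rw [halgN, halgN] at hbb'
      exact IsFractionRing.injective (SGA1.kummerAlg A f n)
        (FractionRing (SGA1.kummerAlg A f n)) (hρKinj hbb')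
    haveI := (faithfulSMul_iff_algebraMap_injective (SGA1.kummerAlg A f n)
        (((Bloc ⊗[Aloc] E) ⊗[Bloc] (FractionRing (SGA1.kummerAlg A f n))) ⧸ 𝔪.asIdeal)).mpr hinjN
    refine etale_integralClosure_of_dvdAll A f hm hf Aloc E n hn1
      (((Bloc ⊗[Aloc] E) ⊗[Bloc] (FractionRing (SGA1.kummerAlg A f n))) ⧸ 𝔪.asIdeal)
      ((Ideal.Quotient.mk 𝔪.asIdeal).comp
        (ιE Aloc Bloc E (FractionRing (SGA1.kummerAlg A f n)))) ?_ ?_ htame hdiv
    · intro a
      rw [RingHom.comp_apply, ιE_algebraMap A Aloc (SGA1.kummerAlg A f n) Bloc E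
        (FractionRing (SGA1.kummerAlg A f n)) a, halgN, hρK]
      rfl
    · intro S' h1 h2
      rw [eq_top_iff]
      intro x _
      obtain ⟨y, rfl⟩ := Ideal.Quotient.mk_surjective x
      refine mem_of_ι Aloc Bloc E (FractionRing (SGA1.kummerAlg A f n))
        (Ideal.Quotient.mk 𝔪.asIdeal) S' (fun e => h1 ⟨e, rfl⟩) ?_ y
      intro k
      have h3 : ∀ b : SGA1.kummerAlg A f n,
          ρK (algebraMap (SGA1.kummerAlg A f n) (FractionRing (SGA1.kummerAlg A f n)) b) ∈ S' := by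
        intro b
        rw [← halgN]
        exact h2 ⟨b, rfl⟩
      obtain ⟨a, b, hb, rfl⟩ := IsFractionRing.div_surjective (A := SGA1.kummerAlg A f n) k
      have h4 : (Ideal.Quotient.mk 𝔪.asIdeal)
          (ιK Aloc Bloc E (FractionRing (SGA1.kummerAlg A f n))
            (algebraMap (SGA1.kummerAlg A f n) (FractionRing (SGA1.kummerAlg A f n)) a /
              algebraMap (SGA1.kummerAlg A f n) (FractionRing (SGA1.kummerAlg A f n)) b)) =
          ρK (algebraMap (SGA1.kummerAlg A f n) (FractionRing (SGA1.kummerAlg A f n)) a /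
              algebraMap (SGA1.kummerAlg A f n) (FractionRing (SGA1.kummerAlg A f n)) b) := by
        rw [hρK]
        rfl
      rw [h4, map_div₀]
      exact div_mem (h3 a) (h3 b)
  obtain ⟨hfin, het⟩ := finite_etale_integralClosure_of_pi (SGA1.kummerAlg A f n)
    ((Bloc ⊗[Aloc] E) ⊗[Bloc] (FractionRing (SGA1.kummerAlg A f n))) h
  refine ⟨integralClosure (SGA1.kummerAlg A f n)
    ((Bloc ⊗[Aloc] E) ⊗[Bloc] (FractionRing (SGA1.kummerAlg A f n))), inferInstance, inferInstance,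
    hfin, het, ε, ?_⟩
  intro b
  exact hε b

end Groth.Agent.Lib.Helper9.AbhGen
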