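import Mathlib
import Groth.Prelude.Def_FEt
import Groth.Prelude.Def_SGA1
import Groth.Agent.Lib.Helper9.AbhSch.AffineHom
import Groth.Agent.Lib.Helper9.AbhSch.SchemeMain

/-!
# Scheme-level plumbing: extending a cover of `D(F)` pulled back to `Spec B` (helper9)
-/

universe u

open AlgebraicGeometry CategoryTheory CategoryTheory.Limits

namespace Groth.Agent.Lib.Helper9.AbhGen

open Groth.Agent.Lib.Helper9.AbhSch

section Ext

variable (A : Type u) [CommRing A] (F : A) (B : Type u) [CommRing B] [Algebra A B]
  (V : FEt.Cat ((SGA1.specBasicOpen A F : (Spec (CommRingCat.of A)).Opens) : Scheme.{u}))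
  [IsAffine V.left]
  (C : Type u) [CommRing C] [Algebra B C] [Module.Finite B C] [Algebra.Etale B C]
  (γ : Γ(V.left, ⊤) →+* Localization.Away (algebraMap B C (algebraMap A B F)))
  (hpush : IsPushout (CommRingCat.ofHom (Localization.awayMap (algebraMap A B) F))
    (ringMap (toAway A F V.hom))
    (CommRingCat.ofHom (Localization.awayMap (algebraMap B C) (algebraMap A B F)))
    (CommRingCat.ofHom γ))

include hpush in
set_option maxHeartbeats 2000000 in
theorem exists_extension_of_pushout :
    ∃ W : FEt.Cat (Spec (CommRingCat.of B)),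
      Nonempty ((FEt.restrict ((Spec.map (CommRingCat.ofHom (algebraMap A B))) ⁻¹ᵁ
          (SGA1.specBasicOpen A F)).ι).obj W ≅
        (FEt.restrict ((Spec.map (CommRingCat.ofHom (algebraMap A B))) ∣_
          (SGA1.specBasicOpen A F))).obj V) := by
  classical
  -- the cover `W = Spec C`
  have hWfin : IsFinite (Spec.map (CommRingCat.ofHom (algebraMap B C))) := by
    rw [IsFinite.SpecMap_iff]
    exact (RingHom.finite_algebraMap).mpr inferInstance
  have hWet : Etale (Spec.map (CommRingCat.ofHom (algebraMap B C))) := by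
    rw [HasRingHomProperty.Spec_iff (P := @Etale)]
    exact (RingHom.etale_algebraMap).mpr inferInstance
  let W : FEt.Cat (Spec (CommRingCat.of B)) :=
    MorphismProperty.Over.mk ⊤ (Spec.map (CommRingCat.ofHom (algebraMap B C))) ⟨hWfin, hWet⟩
  refine ⟨W, ?_⟩
  -- the isomorphism of arrows for `A → B`
  let e := SpecMapRestrictBasicOpenIso (CommRingCat.ofHom (algebraMap A B)) F
  have hw := e.inv.w
  have hright : e.inv.right = (basicOpenIsoSpecAway (R := CommRingCat.of A) F).inv := rfl
  have hleftι : e.hom.left ≫ Spec.map (CommRingCat.ofHom (algebraMap B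
      (Localization.Away (algebraMap A B F)))) =
      ((Spec.map (CommRingCat.ofHom (algebraMap A B))) ⁻¹ᵁ (SGA1.specBasicOpen A F)).ι := by
    show ((Spec _).isoOfEq _ ≪≫ basicOpenIsoSpecAway _).hom ≫ _ = _
    rw [Iso.trans_hom, Category.assoc]
    erw [basicOpenIsoSpecAway_hom_SpecMap]
    exact Scheme.isoOfEq_hom_ι _ _
  -- first pullback square
  have hpo1 : IsPushout (CommRingCat.ofHom (algebraMap B C))
      (CommRingCat.ofHom (algebraMap B (Localization.Away (algebraMap A B F))))
      (CommRingCat.ofHom (algebraMap C (Localization.Away (algebraMap B C (algebraMap A B F)))))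
      (CommRingCat.ofHom (Localization.awayMap (algebraMap B C) (algebraMap A B F))) := by
    haveI : IsLocalization ((Submonoid.powers (algebraMap A B F)).map (algebraMap B C))
        (Localization.Away (algebraMap B C (algebraMap A B F))) := by
      rw [Submonoid.map_powers]
      infer_instance
    refine CommRingCat.isPushout_of_isLocalization (algebraMap B C)
      (Localization.awayMap (algebraMap B C) (algebraMap A B F)) ?_
      (Submonoid.powers (algebraMap A B F))
    ext x
    simp [Localization.awayMap, IsLocalization.Away.map]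
  have hpb1 := (isPullback_SpecMap_of_isPushout _ _ _ _ hpo1)
  have hpb1' : IsPullback
      (Spec.map (CommRingCat.ofHom (algebraMap C
        (Localization.Away (algebraMap B C (algebraMap A B F))))))
      (Spec.map (CommRingCat.ofHom (Localization.awayMap (algebraMap B C) (algebraMap A B F))) ≫
        e.inv.left)
      W.hom ((Spec.map (CommRingCat.ofHom (algebraMap A B))) ⁻¹ᵁ (SGA1.specBasicOpen A F)).ι := by
    refine hpb1.of_iso (Iso.refl _) (Iso.refl _) (Arrow.leftFunc.mapIso e).symm (Iso.refl _)
      ?_ ?_ ?_ ?_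
    · simp
    · simp
    · simp [W]
    · rw [Iso.refl_hom, Category.comp_id, ← hleftι]
      show _ = e.inv.left ≫ e.hom.left ≫ _
      rw [← Category.assoc, ← Arrow.comp_left, e.inv_hom_id, Arrow.id_left]
      simp
  -- second pullback square
  have hpb2 := (isPullback_SpecMap_of_isPushout _ _ _ _ hpush).flip
  have hpb2' : IsPullback
      (Spec.map (CommRingCat.ofHom γ) ≫ V.left.isoSpec.inv)
      (Spec.map (CommRingCat.ofHom (Localization.awayMap (algebraMap B C) (algebraMap A B F))) ≫
        e.inv.left)
      V.hom ((Spec.map (CommRingCat.ofHom (algebraMap A B))) ∣_ (SGA1.specBasicOpen A F)) := by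
    refine hpb2.of_iso (Iso.refl _) V.left.isoSpec.symm (Arrow.leftFunc.mapIso e).symm
      (basicOpenIsoSpecAway (R := CommRingCat.of A) F).symm ?_ ?_ ?_ ?_
    · simp
    · simp
    · have h1 : V.left.isoSpec.inv ≫ toAway A F V.hom =
          Spec.map (ringMap (toAway A F V.hom)) :=
        isoSpec_inv_comp (Y := V.left) (toAway A F V.hom)
      rw [Iso.symm_hom, Iso.symm_hom, ← h1]
      simp only [toAway, Category.assoc, Iso.hom_inv_id, Category.comp_id]
    · rw [Iso.symm_hom, ← hright]
      exact hw.symm
  -- assemble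
  refine ⟨MorphismProperty.Over.isoMk (hpb1'.isoPullback.symm ≪≫ hpb2'.isoPullback) ?_⟩
  show (hpb1'.isoPullback.symm ≪≫ hpb2'.isoPullback).hom ≫ pullback.snd _ _ = pullback.snd _ _
  rw [Iso.trans_hom, Iso.symm_hom, Category.assoc, IsPullback.isoPullback_hom_snd,
    IsPullback.isoPullback_inv_snd]

end Ext

end Groth.Agent.Lib.Helper9.AbhGen
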